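import Groth.Agent.HTop.K348.UH
import Mathlib.AlgebraicGeometry.ResidueField
import Mathlib.FieldTheory.PurelyInseparable.Basic

/-! # Residue field maps: `Spec.map` versus `Ideal.ResidueField.map`, and isomorphisms on
residue fields -/

set_option autoImplicit false
universe u

open AlgebraicGeometry CategoryTheory Limits

namespace K348.Res

set_option backward.isDefEq.respectTransparency false in
lemma residueFieldMap_SpecMap {A B : CommRingCat.{u}} (φ : A ⟶ B) (P : Spec B) :
    (Spec.map φ).residueFieldMap P ≫ (Scheme.Spec.residueFieldIso B P).hom =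
    (Scheme.Spec.residueFieldIso A (Spec.map φ P)).hom ≫ CommRingCat.ofHom
      (Ideal.ResidueField.map (Spec.map φ P).asIdeal P.asIdeal φ.hom rfl) := by
  rw [← Iso.inv_comp_eq, ← Category.assoc, ← Iso.eq_comp_inv]
  apply Spec.map_injective
  have hmono : Mono (Spec.map (CommRingCat.ofHom (algebraMap A (Spec.map φ P).asIdeal.ResidueField))) := by
    have : Spec.map (CommRingCat.ofHom (algebraMap A (Spec.map φ P).asIdeal.ResidueField)) =
      Spec.map (Scheme.Spec.residueFieldIso _ _).hom ≫ (Spec A).fromSpecResidueField (Spec.map φ P) := by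
      rw [← Scheme.Spec.map_residueFieldIso_inv_eq_fromSpecResidueField, ← Spec.map_comp_assoc]
      simp
    rw [this]
    infer_instance
  rw [← cancel_mono (Spec.map (CommRingCat.ofHom (algebraMap A (Spec.map φ P).asIdeal.ResidueField)))]
  simp only [Spec.map_comp, Category.assoc, Scheme.Spec.map_residueFieldIso_inv_eq_fromSpecResidueField]
  refine (Scheme.Hom.SpecMap_residueFieldMap_fromSpecResidueField (Spec.map φ) P).trans ?_
  rw [← Scheme.Spec.map_residueFieldIso_inv_eq_fromSpecResidueField]
  simp only [Category.assoc, ← Spec.map_comp]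
  congr 1
  rw [← Category.assoc, ← Category.assoc]
  congr 1
  ext x
  simp

lemma isIso_iff_of_square {C : Type*} [Category C] {a b c d : C} (f : a ⟶ b) (g : c ⟶ d)
    (i : b ≅ d) (j : a ≅ c) (h : f ≫ i.hom = j.hom ≫ g) : IsIso f ↔ IsIso g := by
  constructor
  · intro _
    have h2 : IsIso (j.hom ≫ g) := by rw [← h]; infer_instance
    exact IsIso.of_isIso_comp_left j.hom g
  · intro _
    have h2 : IsIso (f ≫ i.hom) := by rw [h]; infer_instance
    exact IsIso.of_isIso_comp_right f i.hom

theorem isIso_iff_surjective {X Y : Scheme.{u}} (f : X ⟶ Y) (x : X) :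
    IsIso (f.residueFieldMap x) ↔ Function.Surjective (f.residueFieldMap x).hom := by
  rw [ConcreteCategory.isIso_iff_bijective]
  exact ⟨fun h => h.2, fun h => ⟨(f.residueFieldMap x).hom.injective, h⟩⟩

theorem isIso_residueFieldMap_SpecMap_iff {A C : Type u} [CommRing A] [CommRing C] (φ : A →+* C)
    (p : PrimeSpectrum A) (P : PrimeSpectrum C) (hp : p.asIdeal = P.asIdeal.comap φ) :
    IsIso ((Spec.map (CommRingCat.ofHom φ)).residueFieldMap P) ↔
      Function.Surjective (Ideal.ResidueField.map p.asIdeal P.asIdeal φ hp) := by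
  have hp' : p = Spec.map (CommRingCat.ofHom φ) P := PrimeSpectrum.ext hp
  subst hp'
  rw [isIso_iff_of_square _ _ _ _ (residueFieldMap_SpecMap (CommRingCat.ofHom φ) P),
    ConcreteCategory.isIso_iff_bijective]
  exact ⟨fun h => h.2, fun h => ⟨RingHom.injective _, h⟩⟩

/-- The residue field extensions of a universally injective `Spec φ` are purely inseparable. -/
theorem exists_pow_mem_range {A C : Type u} [CommRing A] [CommRing C] (φ : A →+* C)
    (hφ : UniversallyInjective (Spec.map (CommRingCat.ofHom φ)))
    (p : PrimeSpectrum A) (P : PrimeSpectrum C) (hp : p.asIdeal = P.asIdeal.comap φ)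
    (x : P.asIdeal.ResidueField) :
    ∃ n : ℕ, x ^ ringExpChar p.asIdeal.ResidueField ^ n ∈
      Set.range (Ideal.ResidueField.map p.asIdeal P.asIdeal φ hp) := by
  let _ : Algebra p.asIdeal.ResidueField P.asIdeal.ResidueField :=
    (Ideal.ResidueField.map p.asIdeal P.asIdeal φ hp).toAlgebra
  have h1 : IsPurelyInseparable p.asIdeal.ResidueField P.asIdeal.ResidueField := by
    rw [isPurelyInseparable_iff_subsingleton_emb, subsingleton_iff]
    intro σ₁ σ₂
    apply AlgHom.coe_ringHom_injective
    apply Ideal.ResidueField.ringHom_ext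
    apply K348.UH.ringHom_eq_of_comp_eq φ hφ
    ext a
    have h3 : ∀ σ : Field.Emb p.asIdeal.ResidueField P.asIdeal.ResidueField,
        σ (algebraMap C P.asIdeal.ResidueField (φ a)) =
        algebraMap p.asIdeal.ResidueField _ (algebraMap A p.asIdeal.ResidueField a) := by
      intro σ
      rw [← σ.commutes]
      congr 1
      exact (Ideal.ResidueField.map_algebraMap ..).symm
    exact (h3 σ₁).trans (h3 σ₂).symm
  exact (isPurelyInseparable_iff_pow_mem p.asIdeal.ResidueField (ringExpChar p.asIdeal.ResidueField)).mp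
    h1 x

end K348.Res
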