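import Groth.Agent.HTop.K348.Res
import Mathlib.AlgebraicGeometry.Morphisms.Proper
import Mathlib.AlgebraicGeometry.Morphisms.Finite

/-! # Permanence properties of `HTop.ResidueFieldsIso`; morphisms bijective on field valued points -/

set_option autoImplicit false
universe u

open AlgebraicGeometry CategoryTheory Limits

namespace K348.RFI

theorem comp {X Y Z : Scheme.{u}} {f : X ⟶ Y} {g : Y ⟶ Z} (hf : HTop.ResidueFieldsIso f)
    (hg : HTop.ResidueFieldsIso g) : HTop.ResidueFieldsIso (f ≫ g) := by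
  intro x
  have h1 := hf x
  have h2 := hg (f x)
  have h3 : IsIso (g.residueFieldMap (f x) ≫ f.residueFieldMap x) := inferInstance
  rwa [Scheme.residueFieldMap_comp]

theorem of_isClosedImmersion {X Y : Scheme.{u}} (f : X ⟶ Y) [IsClosedImmersion f] :
    HTop.ResidueFieldsIso f := by
  intro x
  rw [K348.Res.isIso_iff_surjective]
  intro z
  obtain ⟨z, rfl⟩ := X.residue_surjective x z
  obtain ⟨w, rfl⟩ := f.stalkMap_surjective x z
  refine ⟨Y.residue (f x) w, ?_⟩
  have := Scheme.residue_residueFieldMap f x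
  exact congr($(this).hom w)

theorem of_isIso {X Y : Scheme.{u}} (f : X ⟶ Y) [IsIso f] :
    HTop.ResidueFieldsIso f := of_isClosedImmersion f

/-- cancellation: `f ≫ g` inducing isomorphisms at `x`, so does `g` at `f x`. -/
theorem isIso_of_comp {X Y Z : Scheme.{u}} (f : X ⟶ Y) (g : Y ⟶ Z) (x : X)
    (h : IsIso ((f ≫ g).residueFieldMap x)) : IsIso (g.residueFieldMap (f x)) := by
  have h := (ConcreteCategory.isIso_iff_bijective _).mp h
  rw [Scheme.residueFieldMap_comp] at h
  rw [K348.Res.isIso_iff_surjective]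
  intro y
  obtain ⟨z, hz⟩ := h.2 ((f.residueFieldMap x) y)
  exact ⟨z, (f.residueFieldMap x).hom.injective hz⟩

theorem of_comp_surjective {X Y Z : Scheme.{u}} (f : X ⟶ Y) (g : Y ⟶ Z) [Surjective f]
    (h : HTop.ResidueFieldsIso (f ≫ g)) : HTop.ResidueFieldsIso g := by
  intro y
  obtain ⟨x, rfl⟩ := f.surjective y
  exact isIso_of_comp f g x (h x)

/-- The morphism `f` is bijective on `K`-valued points for all fields `K`. -/
def KBij {X Y : Scheme.{u}} (f : X ⟶ Y) : Prop :=
  ∀ (K : Type u) [Field K], Function.Bijective (fun s : Spec (.of K) ⟶ X ↦ s ≫ f)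

theorem KBij.universallyInjective {X Y : Scheme.{u}} {f : X ⟶ Y} (hf : KBij f) :
    UniversallyInjective f := by
  have h1' : UniversallyInjective f ↔
      ∀ (K : Type u) [Field K], Function.Injective (fun s : Spec (.of K) ⟶ X ↦ s ≫ f) :=
      (tfae_universallyInjective f).out 0 1
  exact h1'.mpr fun K _ => (hf K).1

theorem KBij.surjective {X Y : Scheme.{u}} {f : X ⟶ Y} (hf : KBij f) : Surjective f := by
  refine ⟨fun y => ?_⟩
  obtain ⟨s, hs⟩ := (hf (Y.residueField y)).2 (Y.fromSpecResidueField y)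
  have hs : s ≫ f = Y.fromSpecResidueField y := hs
  let pt : Spec (Y.residueField y) := IsLocalRing.closedPoint _
  refine ⟨s pt, ?_⟩
  rw [← Scheme.Hom.comp_apply, hs]
  exact Scheme.fromSpecResidueField_apply y pt

theorem KBij.residueFieldsIso {X Y : Scheme.{u}} {f : X ⟶ Y} (hf : KBij f) :
    HTop.ResidueFieldsIso f := by
  intro x
  obtain ⟨s, hs⟩ := (hf (Y.residueField (f x))).2 (Y.fromSpecResidueField (f x))
  have h1 : Spec.map (f.residueFieldMap x) ≫ s = X.fromSpecResidueField x := by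
    apply (hf (X.residueField x)).1
    have h2 : (Spec.map (f.residueFieldMap x) ≫ s) ≫ f = X.fromSpecResidueField x ≫ f := by
      rw [Category.assoc, ← Scheme.Hom.SpecMap_residueFieldMap_fromSpecResidueField]
      exact congr(_ ≫ $hs)
    exact h2
  obtain ⟨x₁, φ, hφ⟩ : ∃ (x₁ : X) (φ : X.residueField x₁ ⟶ Y.residueField (f x)),
      s = Spec.map φ ≫ X.fromSpecResidueField x₁ := by
    obtain ⟨⟨x₁, φ⟩, h⟩ := (X.SpecToEquivOfField (Y.residueField (f x))).symm.surjective s
    exact ⟨x₁, φ, h.symm⟩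
  have hx : x₁ = x := by
    let pt : Spec (X.residueField x) := IsLocalRing.closedPoint _
    have h3 := congr($h1 pt)
    rw [hφ, Scheme.fromSpecResidueField_apply] at h3
    rw [← h3]
    simp only [Scheme.Hom.comp_apply]
    exact (Scheme.fromSpecResidueField_apply ..).symm
  subst hx
  rw [hφ, ← Category.assoc] at h1
  have h4 : (Spec.map (f.residueFieldMap x₁) ≫ Spec.map φ) = 𝟙 _ := by
    rw [← cancel_mono (X.fromSpecResidueField x₁), h1, Category.id_comp]
  rw [← Spec.map_comp, ← Spec.map_id, Spec.map_inj] at h4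
  rw [K348.Res.isIso_iff_surjective]
  intro z
  exact ⟨φ.hom z, congr($(h4).hom z)⟩

theorem KBij.of_residueFieldsIso {X Y : Scheme.{u}} {f : X ⟶ Y}
    (h1 : UniversallyInjective f) (h2 : Surjective f) (h3 : HTop.ResidueFieldsIso f) : KBij f := by
  intro K _
  refine ⟨?_, ?_⟩
  · have h1' : UniversallyInjective f ↔
      ∀ (K : Type u) [Field K], Function.Injective (fun s : Spec (.of K) ⟶ X ↦ s ≫ f) :=
      (tfae_universallyInjective f).out 0 1
    exact h1'.mp h1 K
  · intro s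
    obtain ⟨y, φ, hφ⟩ : ∃ (y : Y) (φ : Y.residueField y ⟶ .of K),
        s = Spec.map φ ≫ Y.fromSpecResidueField y := by
      obtain ⟨⟨x₁, φ⟩, h⟩ := (Y.SpecToEquivOfField K).symm.surjective s
      exact ⟨x₁, φ, h.symm⟩
    obtain ⟨x, rfl⟩ := f.surjective y
    have hx := h3 x
    refine ⟨Spec.map (inv (f.residueFieldMap x) ≫ φ) ≫ X.fromSpecResidueField x, ?_⟩
    dsimp only
    rw [Spec.map_comp, Category.assoc, Category.assoc,
      ← Scheme.Hom.SpecMap_residueFieldMap_fromSpecResidueField,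
      ← Category.assoc (Spec.map (inv (f.residueFieldMap x))), ← Spec.map_comp, IsIso.hom_inv_id,
      Spec.map_id, Category.id_comp, hφ]

theorem kbij_iff {X Y : Scheme.{u}} {f : X ⟶ Y} :
    KBij f ↔ UniversallyInjective f ∧ Surjective f ∧ HTop.ResidueFieldsIso f :=
  ⟨fun h => ⟨h.universallyInjective, h.surjective, h.residueFieldsIso⟩,
    fun h => .of_residueFieldsIso h.1 h.2.1 h.2.2⟩

theorem KBij.of_isPullback {X Y X' Y' : Scheme.{u}} {f' : Y' ⟶ X'} {g' : Y' ⟶ Y} {g : X' ⟶ X}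
    {f : Y ⟶ X} (h : IsPullback g' f' f g) (hf : KBij f) : KBij f' := by
  intro K _
  refine ⟨fun s₁ s₂ hs => ?_, fun s => ?_⟩
  · have hs : s₁ ≫ f' = s₂ ≫ f' := hs
    apply h.hom_ext
    · apply (hf K).1
      dsimp only
      rw [Category.assoc, Category.assoc, h.w, reassoc_of% hs]
    · exact hs
  · obtain ⟨t, ht⟩ := (hf K).2 (s ≫ g)
    exact ⟨h.lift t s ht, h.lift_snd _ _ _⟩

theorem KBij.comp {X Y Z : Scheme.{u}} {f : X ⟶ Y} {g : Y ⟶ Z} (hf : KBij f) (hg : KBij g) :
    KBij (f ≫ g) := by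
  intro K _
  have : (fun s : Spec (.of K) ⟶ X ↦ s ≫ f ≫ g) = (fun s ↦ s ≫ g) ∘ (fun s ↦ s ≫ f) := by
    ext s; simp
  rw [this]
  exact (hg K).comp (hf K)

theorem KBij.of_comp {X Y Z : Scheme.{u}} {f : X ⟶ Y} {g : Y ⟶ Z} (hfg : KBij (f ≫ g))
    (hg : KBij g) : KBij f := by
  intro K _
  have : (fun s : Spec (.of K) ⟶ X ↦ s ≫ f ≫ g) = (fun s ↦ s ≫ g) ∘ (fun s ↦ s ≫ f) := by
    ext s; simp
  have h := hfg K
  rw [this] at h
  exact (Function.Bijective.of_comp_iff' (hg K) _).mp h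

theorem KBij.of_comp' {X Y Z : Scheme.{u}} {f : X ⟶ Y} {g : Y ⟶ Z} (hfg : KBij (f ≫ g))
    (hf : KBij f) : KBij g := by
  intro K _
  have : (fun s : Spec (.of K) ⟶ X ↦ s ≫ f ≫ g) = (fun s ↦ s ≫ g) ∘ (fun s ↦ s ≫ f) := by
    ext s; simp
  have h := hfg K
  rw [this] at h
  exact (Function.Bijective.of_comp_iff _ (hf K)).mp h

/-- A universal homeomorphism with trivial residue field extensions. -/
theorem kbij_of_isUnivHomeo {X Y : Scheme.{u}} {f : X ⟶ Y} (h1 : FlatMor.IsUnivHomeo f)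
    (h2 : HTop.ResidueFieldsIso f) : KBij f := by
  have h := (Groth.Agent.FlatA.UnivHomeo.isUnivHomeo_iff f).mp h1
  exact .of_residueFieldsIso h.2.1 h.2.2 h2

end K348.RFI
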