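import Groth.Agent.Ega2.BlowBasic
import Groth.Agent.S8862
import Groth.Agent.Subtr.K835.Pro
import Groth.Agent.Subtr.K834.Basic

/-! # Valuation rings and blow-ups: lifting through an open subscheme of the blow-up -/

set_option autoImplicit false
universe u
open CategoryTheory CategoryTheory.Limits AlgebraicGeometry

namespace K348.BlowVal

/-- A maximal point is not on an effective Cartier divisor. -/
theorem notMem_support_of_isMax {Y : Scheme.{u}} {E : Y.IdealSheafData}
    (hE : BlowUp.IsEffCartierIdeal E) {y : Y} (hy : ∀ z : Y, z ⤳ y → z = y) : y ∉ E.support := by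
  obtain ⟨W, g, hyW, hg, hD⟩ := Groth.Agent.Ega2.BlowBasic.exists_basicOpen_eq hE y
  have h1 : y ∈ Y.basicOpen g := by
    obtain ⟨P, hP⟩ : y ∈ Set.range W.2.fromSpec := by rw [W.2.range_fromSpec]; exact hyW
    let p : PrimeSpectrum Γ(Y, W.1) := P
    have hp : p.asIdeal ∈ minimalPrimes Γ(Y, W.1) := by
      refine ⟨⟨p.2, bot_le⟩, ?_⟩
      intro q hq hqp
      have h2 : (⟨q, hq.1⟩ : PrimeSpectrum Γ(Y, W.1)) ⤳ p :=
        (PrimeSpectrum.le_iff_specializes _ _).mp hqp
      have hoi : IsOpenImmersion W.2.fromSpec := W.2.isOpenImmersion_fromSpec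
      have h3 := h2.map W.2.fromSpec.continuous
      have h4 := hy (W.2.fromSpec (show Spec Γ(Y, W.1) from (⟨q, hq.1⟩ : PrimeSpectrum Γ(Y, W.1))))
        (by rw [← hP]; exact h3)
      have h5 : (show Spec Γ(Y, W.1) from (⟨q, hq.1⟩ : PrimeSpectrum Γ(Y, W.1))) = P :=
        W.2.fromSpec.isOpenEmbedding.injective (h4.trans hP.symm)
      have h6 : q = p.asIdeal := congrArg PrimeSpectrum.asIdeal h5
      exact h6.ge
    have hgp : g ∉ p.asIdeal := by
      intro hgp
      exact Ideal.disjoint_nonZeroDivisors_of_mem_minimalPrimes hp |>.le_bot ⟨hgp, hg⟩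
    have h2 : P ∈ (W.2.fromSpec ⁻¹ᵁ Y.basicOpen g) := by
      rw [W.2.fromSpec_preimage_basicOpen]
      exact hgp
    have h3 : W.2.fromSpec P ∈ Y.basicOpen g := h2
    rwa [hP] at h3
  rw [hD] at h1
  exact h1.2

/-- The generic point of the spectrum of a domain is its only maximal point. -/
theorem eq_gpt_of_isMax {V : Type u} [CommRing V] [IsDomain V] {ξ : Spec (CommRingCat.of V)}
    (h : ∀ z : Spec (CommRingCat.of V), z ⤳ ξ → z = ξ) :
    ξ = (show Spec (CommRingCat.of V) from K834.Basic.gpt V) := by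
  refine (h _ ?_).symm
  exact (PrimeSpectrum.le_iff_specializes (K834.Basic.gpt V) ξ).mp (bot_le (a := PrimeSpectrum.asIdeal ξ))

/-- A surjective morphism of spectra of valuation rings (or of domains) preserves the generic points. -/
theorem apply_gpt {V W : Type u} [CommRing V] [IsDomain V] [CommRing W] [IsDomain W]
    (β : Spec (CommRingCat.of W) ⟶ Spec (CommRingCat.of V)) [Surjective β] :
    β (show Spec (CommRingCat.of W) from K834.Basic.gpt W) =
      (show Spec (CommRingCat.of V) from K834.Basic.gpt V) := by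
  obtain ⟨w, hw⟩ := β.surjective (show Spec (CommRingCat.of V) from K834.Basic.gpt V)
  have h1 : (show Spec (CommRingCat.of W) from K834.Basic.gpt W) ⤳ w :=
    (PrimeSpectrum.le_iff_specializes (K834.Basic.gpt W) w).mp (bot_le (a := PrimeSpectrum.asIdeal w))
  have h2 := h1.map β.continuous
  rw [hw] at h2
  have h3 : (K834.Basic.gpt V : PrimeSpectrum V) ⤳ (show PrimeSpectrum V from
    β (show Spec (CommRingCat.of W) from K834.Basic.gpt W)) :=
    (PrimeSpectrum.le_iff_specializes (K834.Basic.gpt V) _).mp (bot_le (a := PrimeSpectrum.asIdeal _))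
  exact (h2.antisymm h3).eq

open IsLocalRing in
/-- Let `b : X' ⟶ X` be a blow-up and `a : U ⟶ X'` such that `a ≫ b` has the lifting property for
valuation rings. Then `a` is surjective. -/
theorem surjective_of_lift {X X' U : Scheme.{u}} (𝓘 : X.IdealSheafData) (b : X' ⟶ X)
    (hb : BlowUp.IsBlowUp b 𝓘) (j : U ⟶ X')
    (H : ∀ (V : Type u) [CommRing V] [IsDomain V] [ValuationRing V]
      (g : Spec (CommRingCat.of V) ⟶ X),
      ∃ (V' : Type u) (_ : CommRing V') (_ : IsDomain V') (_ : ValuationRing V')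
        (a : Spec (CommRingCat.of V') ⟶ U) (β : Spec (CommRingCat.of V') ⟶ Spec (CommRingCat.of V)),
        Surjective β ∧ a ≫ j ≫ b = β ≫ g) : Surjective j := by
  refine ⟨fun x' => ?_⟩
  obtain ⟨y', hy', hmax⟩ := K835.Pro.exists_maximal x'
  have hny := notMem_support_of_isMax hb.1 hmax
  obtain ⟨V, _, _, _, g, hg1, hg2⟩ := K834.Basic.exists_valuationRing hy'
  obtain ⟨V', _, _, _, a, β, hβ, he⟩ := H V (g ≫ b)
  have hE : BlowUp.IsEffCartierIdeal (𝓘.comap (β ≫ g ≫ b)) := by
    have h1 : 𝓘.comap (β ≫ g ≫ b) = (𝓘.comap b).comap (β ≫ g) := by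
      rw [← Scheme.IdealSheafData.comap_comp, Category.assoc]
    rw [h1]
    refine Groth.Agent.S8862.result (β ≫ g) (𝓘.comap b) hb.1 ?_
    intro ξ hξ
    rw [eq_gpt_of_isMax hξ, Scheme.Hom.comp_apply, apply_gpt β]
    change g (K834.Basic.gpt V) ∉ _
    rw [hg2]
    exact hny
  obtain ⟨h, -, hu⟩ := hb.2 _ (β ≫ g ≫ b) hE
  have h1 : a ≫ j = β ≫ g := by
    rw [hu (a ≫ j) (by dsimp only; rw [Category.assoc]; exact he), hu (β ≫ g) (Category.assoc _ _ _)]
  obtain ⟨w, hw⟩ := β.surjective (show Spec (CommRingCat.of V) from closedPoint V)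
  refine ⟨a w, ?_⟩
  rw [← Scheme.Hom.comp_apply, h1, Scheme.Hom.comp_apply, hw]
  exact hg1

end K348.BlowVal
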