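import Groth.Prelude.Def_SGA1
import Mathlib.AlgebraicGeometry.Morphisms.UniversallyOpen
import Mathlib.AlgebraicGeometry.Morphisms.UniversallyClosed
import Mathlib.AlgebraicGeometry.Morphisms.UnderlyingMap

/-! # Elementary properties of universally submersive morphisms -/

set_option autoImplicit false
universe u

open AlgebraicGeometry CategoryTheory Limits

namespace K348.USub

theorem of_universallyOpen {X Y : Scheme.{u}} (f : X ⟶ Y) [UniversallyOpen f] [Surjective f] :
    SGA1.UnivSubmersive f := by
  intro X' Y' i₁ i₂ f' sq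
  have h₁' : UniversallyOpen f' := MorphismProperty.of_isPullback sq.flip inferInstance
  have h₃' : Surjective f' := MorphismProperty.of_isPullback sq.flip inferInstance
  exact f'.isOpenMap.isQuotientMap f'.continuous f'.surjective

theorem of_universallyClosed {X Y : Scheme.{u}} (f : X ⟶ Y) [UniversallyClosed f] [Surjective f] :
    SGA1.UnivSubmersive f := by
  intro X' Y' i₁ i₂ f' sq
  have h₁' : UniversallyClosed f' := MorphismProperty.of_isPullback sq.flip inferInstance
  have h₃' : Surjective f' := MorphismProperty.of_isPullback sq.flip inferInstance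
  exact f'.isClosedMap.isQuotientMap f'.continuous f'.surjective

theorem surjective {X Y : Scheme.{u}} {f : X ⟶ Y} (hf : SGA1.UnivSubmersive f) : Surjective f :=
  ⟨(MorphismProperty.universally_le _ _ hf).surjective⟩

theorem of_isPullback {X Y X' Y' : Scheme.{u}} {f : X ⟶ Y} {f' : X' ⟶ Y'} {g' : X' ⟶ X} {g : Y' ⟶ Y}
    (h : IsPullback g' f' f g) (hf : SGA1.UnivSubmersive f) : SGA1.UnivSubmersive f' :=
  MorphismProperty.of_isPullback (P := SGA1.UnivSubmersive)
    (self := MorphismProperty.universally_isStableUnderBaseChange _) h hf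

theorem comp {X Y Z : Scheme.{u}} {f : X ⟶ Y} {g : Y ⟶ Z} (hf : SGA1.UnivSubmersive f)
    (hg : SGA1.UnivSubmersive g) : SGA1.UnivSubmersive (f ≫ g) := by
  have : (topologically fun {α β} [TopologicalSpace α] [TopologicalSpace β] f =>
      Topology.IsQuotientMap f).IsStableUnderComposition :=
    ⟨fun f g hf hg => by
      have h := Topology.IsQuotientMap.comp (f := f) (g := g) hg hf
      exact h⟩
  exact MorphismProperty.comp_mem (W := MorphismProperty.universally _) f g hf hg

/-- Cancellation. -/
theorem of_comp {X Y Z : Scheme.{u}} {f : X ⟶ Y} {g : Y ⟶ Z}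
    (h : SGA1.UnivSubmersive (f ≫ g)) : SGA1.UnivSubmersive g := by
  intro Y' Z' i₁ i₂ k sq
  have sq1 : IsPullback (pullback.snd f i₁) (pullback.fst f i₁) i₁ f :=
    (IsPullback.of_hasPullback _ _).flip
  have h1 : Topology.IsQuotientMap (pullback.snd f i₁ ≫ k : _ ⟶ Z') :=
    h _ _ _ (sq1.paste_horiz sq)
  exact Topology.IsQuotientMap.of_comp (pullback.snd f i₁).continuous k.continuous h1

end K348.USub
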