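import Groth.Agent.HTop.K348.PropFT
import Groth.Agent.HTop.K348.USub
import Groth.Agent.S14770
import Groth.Agent.S5938

/-! # Finite type is local for universally submersive morphisms of Noetherian schemes (modulo flattening) -/

set_option autoImplicit false
universe u
open CategoryTheory CategoryTheory.Limits AlgebraicGeometry Opposite

namespace K348.FTDesc

/-- The refinement statement of S14779 (flat, then proper), for affine targets. -/
def FlatThenProper : Prop := ∀ {X Y : Scheme.{u}} (f : X ⟶ Y) [IsAffine Y] [LocallyOfFinitePresentation f]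
    [QuasiCompact f] [QuasiSeparated f] (_ : Subtr.UnivSSubtrusive f),
    ∃ (X' Y' : Scheme.{u}) (h : X' ⟶ X) (p : X' ⟶ Y') (q : Y' ⟶ Y), h ≫ f = p ≫ q ∧
      Flat p ∧ Surjective p ∧ LocallyOfFinitePresentation p ∧ IsProper q ∧ Surjective q

theorem affine_case (H : FlatThenProper.{u}) (R A : Type u) [CommRing R] [CommRing A] [Algebra R A]
    [IsNoetherianRing R] [IsNoetherianRing A] {X : Scheme.{u}} [IsLocallyNoetherian X] [CompactSpace X]
    (f : X ⟶ Spec (CommRingCat.of A)) (hf : SGA1.UnivSubmersive f)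
    [LocallyOfFiniteType (f ≫ Spec.map (CommRingCat.ofHom (algebraMap R A)))] :
    Algebra.FiniteType R A := by
  have h1 : LocallyOfFiniteType f :=
    locallyOfFiniteType_of_comp f (Spec.map (CommRingCat.ofHom (algebraMap R A)))
  have h2 : LocallyOfFinitePresentation f := inferInstance
  have h3 : Subtr.UnivSSubtrusive f := (Groth.Agent.S14770.result f).mp hf
  obtain ⟨X', Y', h, p, q, hpq, i1, i2, i3, i4, i5⟩ := H f h3
  have h4 : LocallyOfFiniteType (h ≫ f) := by rw [hpq]; infer_instance
  have h5 : LocallyOfFiniteType h := locallyOfFiniteType_of_comp h f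
  have h6 : LocallyOfFiniteType (p ≫ (q ≫ Spec.map (CommRingCat.ofHom (algebraMap R A)))) := by
    rw [← Category.assoc, ← hpq, Category.assoc]
    infer_instance
  have h7 := Groth.Agent.S5938.result p (q ≫ Spec.map (CommRingCat.ofHom (algebraMap R A)))
  exact K348.PropFT.finiteType_of_proper_surjective R A q

theorem main (H : FlatThenProper.{u}) {X' X Y : Scheme.{u}} [IsNoetherian X'] [IsNoetherian X]
    [IsNoetherian Y] (f : X' ⟶ X) (hf : SGA1.UnivSubmersive f) (g : X ⟶ Y)
    [LocallyOfFiniteType (f ≫ g)] : LocallyOfFiniteType g := by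
  rw [HasRingHomProperty.iff_appLE (P := @LocallyOfFiniteType)]
  rintro ⟨U, hU⟩ ⟨V, hV⟩ e
  let A := Γ(X, V)
  let R := Γ(Y, U)
  let _ : Algebra Γ(Y, U) Γ(X, V) := (g.appLE U V e).hom.toAlgebra
  have hR : IsNoetherianRing Γ(Y, U) := IsLocallyNoetherian.component_noetherian ⟨U, hU⟩
  have hA : IsNoetherianRing Γ(X, V) := IsLocallyNoetherian.component_noetherian ⟨V, hV⟩
  let f₁ : pullback f hV.fromSpec ⟶ Spec Γ(X, V) := pullback.snd f hV.fromSpec
  have hf₁ : SGA1.UnivSubmersive f₁ :=
    K348.USub.of_isPullback (IsPullback.of_hasPullback f hV.fromSpec) hf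
  have hO : IsOpenImmersion (pullback.fst f hV.fromSpec) :=
    MorphismProperty.pullback_fst (P := @IsOpenImmersion) f hV.fromSpec hV.isOpenImmersion_fromSpec
  have hN : IsLocallyNoetherian (pullback f hV.fromSpec) :=
    isLocallyNoetherian_of_isOpenImmersion (pullback.fst f hV.fromSpec)
  have hC : CompactSpace (pullback f hV.fromSpec : Scheme.{u}) :=
    QuasiCompact.compactSpace_of_compactSpace (pullback.fst f hV.fromSpec)
  have h2 : LocallyOfFiniteType (f₁ ≫ Spec.map (g.appLE U V e)) := by
    have h3 : (f₁ ≫ Spec.map (g.appLE U V e)) ≫ hU.fromSpec = pullback.fst f hV.fromSpec ≫ f ≫ g := by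
      rw [Category.assoc, IsAffineOpen.SpecMap_appLE_fromSpec g hU hV e, ← Category.assoc,
        ← pullback.condition, Category.assoc]
    have h4 : LocallyOfFiniteType ((f₁ ≫ Spec.map (g.appLE U V e)) ≫ hU.fromSpec) := by
      rw [h3]
      infer_instance
    exact locallyOfFiniteType_of_comp _ hU.fromSpec
  exact affine_case H Γ(Y, U) Γ(X, V) f₁ hf₁

end K348.FTDesc
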