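import Groth.Agent.HTop.K348.RFI
import Mathlib.AlgebraicGeometry.Morphisms.Proper
import Mathlib.AlgebraicGeometry.IdealSheaf.Subscheme
import Mathlib.AlgebraicGeometry.Morphisms.FinitePresentation

/-! # Factoring a universal homeomorphism into a scheme of finite type through a finite one -/

set_option autoImplicit false
universe u

open AlgebraicGeometry CategoryTheory Limits
open Groth.Agent.FlatA.UnivHomeo

namespace K348.Factor

theorem isUnivHomeo_comp {X Y Z : Scheme.{u}} {f : X ⟶ Y} {g : Y ⟶ Z} (hf : FlatMor.IsUnivHomeo f)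
    (hg : FlatMor.IsUnivHomeo g) : FlatMor.IsUnivHomeo (f ≫ g) := by
  rw [isUnivHomeo_iff] at *
  obtain ⟨h₁, h₂, h₃⟩ := hf
  obtain ⟨k₁, k₂, k₃⟩ := hg
  exact ⟨inferInstance, MorphismProperty.comp_mem _ f g h₂ k₂, inferInstance⟩

theorem isUnivHomeo_of_isClosedImmersion {X Y : Scheme.{u}} (f : X ⟶ Y) [IsClosedImmersion f]
    [Surjective f] : FlatMor.IsUnivHomeo f := by
  rw [isUnivHomeo_iff]
  exact ⟨inferInstance, inferInstance, inferInstance⟩

/-- If `ν : T' ⟶ T` is a universal homeomorphism and `a : T' ⟶ Z` a `T`-morphism into a separated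
`T`-scheme locally of finite type, then `a` factors through a closed subscheme `T₁` of `Z` which is
finite and universally homeomorphic over `T`, and `T' ⟶ T₁` is surjective. -/
theorem exists_finite_factor {T T' Z : Scheme.{u}} (ν : T' ⟶ T) (hν : FlatMor.IsUnivHomeo ν)
    (q : Z ⟶ T) [LocallyOfFiniteType q] [IsSeparated q] (a : T' ⟶ Z) (ha : a ≫ q = ν) :
    ∃ (T₁ : Scheme.{u}) (ι : T₁ ⟶ Z) (h : T' ⟶ T₁), IsClosedImmersion ι ∧ Surjective h ∧
      h ≫ ι = a ∧ IsFinite (ι ≫ q) ∧ FlatMor.IsUnivHomeo (ι ≫ q) := by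
  have hν' := (isUnivHomeo_iff ν).mp hν
  obtain ⟨i1, i2, i3⟩ := hν'
  have : UniversallyClosed (a ≫ q) := ha ▸ inferInstance
  have : QuasiCompact (a ≫ q) := ha ▸ inferInstance
  have ha1 : UniversallyClosed a := .of_comp_of_isSeparated a q
  have ha2 : QuasiCompact a := .of_comp a q
  have hs : Surjective a.toImage := by
    refine ⟨?_⟩
    have h1 : IsClosed (Set.range a.toImage) := a.toImage.isClosedMap.isClosed_range
    have h2 : DenseRange a.toImage := a.toImage.denseRange
    intro x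
    have : x ∈ closure (Set.range a.toImage) := h2 x
    rwa [h1.closure_eq] at this
  have hcomp : a.toImage ≫ a.imageι ≫ q = ν := by rw [Scheme.Hom.toImage_imageι_assoc, ha]
  have : UniversallyClosed (a.toImage ≫ a.imageι ≫ q) := hcomp ▸ inferInstance
  have : Surjective (a.toImage ≫ a.imageι ≫ q) := hcomp ▸ inferInstance
  have : UniversallyInjective (a.toImage ≫ a.imageι ≫ q) := hcomp ▸ inferInstance
  have hu : FlatMor.IsUnivHomeo (a.imageι ≫ q) := by
    refine isUnivHomeo_of_universallyClosed (.of_comp_surjective a.toImage _) ?_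
      (.of_comp a.toImage _)
    refine K348.UH.universallyInjective_of_cover _ a.toImage ?_
    intro K _ h₁ h₂ h
    rw [Category.assoc, Category.assoc] at h
    have := K348.UH.eq_of_comp_eq (a.toImage ≫ a.imageι ≫ q) K h₁ h₂ h
    rw [this]
  refine ⟨a.image, a.imageι, a.toImage, inferInstance, hs, a.toImage_imageι, ?_, hu⟩
  rw [IsFinite.iff_isIntegralHom_and_locallyOfFiniteType]
  exact ⟨isIntegralHom_of_isUnivHomeo hu, inferInstance⟩

/-- Two morphisms agreeing after a surjective morphism agree on a surjective closed subscheme. -/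
theorem exists_closed_equalizer {T' T₁ X S : Scheme.{u}} (h : T' ⟶ T₁) [Surjective h]
    (fX : X ⟶ S) [IsSeparated fX] (g₁ g₂ : T₁ ⟶ X) (hS : g₁ ≫ fX = g₂ ≫ fX)
    (hg : h ≫ g₁ = h ≫ g₂) :
    ∃ (E : Scheme.{u}) (i : E ⟶ T₁), IsClosedImmersion i ∧ Surjective i ∧ i ≫ g₁ = i ≫ g₂ := by
  obtain ⟨l, hl1, hl2⟩ : ∃ l : T₁ ⟶ pullback fX fX, l ≫ pullback.fst fX fX = g₁ ∧
      l ≫ pullback.snd fX fX = g₂ :=
    ⟨pullback.lift g₁ g₂ hS, pullback.lift_fst _ _ _, pullback.lift_snd _ _ _⟩
  let E := pullback l (pullback.diagonal fX)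
  let i : E ⟶ T₁ := pullback.fst _ _
  have hi : i ≫ l = pullback.snd _ _ ≫ pullback.diagonal fX := pullback.condition
  have h1 : i ≫ g₁ = pullback.snd _ _ := by
    have := congr($hi ≫ pullback.fst _ _)
    simpa [hl1] using this
  have h2 : i ≫ g₂ = pullback.snd _ _ := by
    have := congr($hi ≫ pullback.snd _ _)
    simpa [hl2] using this
  refine ⟨E, i, inferInstance, ?_, h1.trans h2.symm⟩
  let j : T' ⟶ E := pullback.lift h (h ≫ g₁) (by
    apply pullback.hom_ext
    · simp [hl1]
    · simp [hl2, hg])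
  have hj : j ≫ i = h := pullback.lift_fst _ _ _
  have : Surjective (j ≫ i) := hj ▸ inferInstance
  exact .of_comp j i

end K348.Factor
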