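import Mathlib.RingTheory.Finiteness.Basic
import Mathlib.RingTheory.RingHom.Finite
import Mathlib.RingTheory.Noetherian.Basic

/-! # A subring of a finite algebra over a Noetherian ring is finite -/

set_option autoImplicit false
universe u

namespace K348.FinInj

theorem finite_of_comp_injective {R B C : Type u} [CommRing R] [CommRing B] [CommRing C]
    [IsNoetherianRing R] (f : R →+* B) (g : B →+* C) (h : (g.comp f).Finite)
    (hg : Function.Injective g) : f.Finite := by
  letI := f.toAlgebra
  letI := (g.comp f).toAlgebra
  have : Module.Finite R C := h
  have hs : ∀ (r : R) (b : B), g (r • b) = r • g b := by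
    intro r b
    rw [Algebra.smul_def, Algebra.smul_def, map_mul]
    rfl
  let l : B →ₗ[R] C := { g with map_smul' := hs }
  have : Module.Finite R B := Module.Finite.of_injective l hg
  exact this

end K348.FinInj
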