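import Groth.Agent.HTop.K346.PhBasic
import Groth.Agent.HTop.K346.Site
import Groth.Agent.HTop.K346.VCover

/-! # h sheaves and a pair of closed subschemes covering a scheme -/

set_option autoImplicit false
universe w w' u
open CategoryTheory CategoryTheory.Limits AlgebraicGeometry Opposite HTop

namespace K348.HCart

/-- A finite family of closed immersions, jointly surjective, lifts valuation rings. -/
theorem hasValLift_of_isClosedImmersion {T : Scheme.{u}} (E : PreZeroHypercover.{w} T)
    [∀ i, IsClosedImmersion (E.f i)] (hs : ∀ t : T, ∃ (i : E.I₀) (x : E.X i), E.f i x = t) :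
    HasValLift E := by
  intro V _ _ g
  obtain ⟨i, x, hx⟩ := hs (g (K346.ValLift.gen V))
  have hsurj : Surjective (pullback.fst g (E.f i)) := by
    refine ⟨fun v => ?_⟩
    obtain ⟨z, hz, -⟩ := Scheme.Pullback.exists_preimage_pullback (f := g) (g := E.f i)
      (K346.ValLift.gen V) x hx.symm
    have h1 : IsClosed (Set.range (pullback.fst g (E.f i))) :=
      (pullback.fst g (E.f i)).isClosedEmbedding.isClosed_range
    have h2 : K346.ValLift.gen V ∈ Set.range (pullback.fst g (E.f i)) := ⟨z, hz⟩
    exact (K346.ValLift.gen_specializes V v).mem_closed h1 h2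
  have : IsIntegral (Spec V) := by
    have : IsDomain V := inferInstance
    infer_instance
  have : IsIso (pullback.fst g (E.f i)) := isIso_of_isClosedImmersion_of_surjective _
  refine ⟨V, inferInstance, inferInstance, 𝟙 V, K346.ValLift.isExtVal_id V, i,
    inv (pullback.fst g (E.f i)) ≫ pullback.snd g (E.f i), ?_⟩
  rw [Category.assoc, ← pullback.condition, IsIso.inv_hom_id_assoc, Spec.map_id, Category.id_comp]

theorem isHCover_of_isClosedImmersion {T : Scheme.{u}} (E : PreZeroHypercover.{w} T) [Finite E.I₀]
    [∀ i, IsClosedImmersion (E.f i)] [∀ i, LocallyOfFinitePresentation (E.f i)]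
    (hs : ∀ t : T, ∃ (i : E.I₀) (x : E.X i), E.f i x = t) : IsHCover E :=
  ⟨inferInstance, K346.VCover.isVCover_of_hasValLift E inferInstance
    (hasValLift_of_isClosedImmersion E hs)⟩

/-- Two closed subschemes covering `W` detect equality of sections of an h sheaf. -/
theorem eq_of_closed_pair {S : Scheme.{u}} {P : (Over S)ᵒᵖ ⥤ Type w} (hP : Presieve.IsSheaf (Jh S) P)
    {W W₁ W₂ : Over S} (j₁ : W₁ ⟶ W) (j₂ : W₂ ⟶ W) [IsClosedImmersion j₁.left]
    [IsClosedImmersion j₂.left] [LocallyOfFinitePresentation j₁.left]
    [LocallyOfFinitePresentation j₂.left]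
    (hs : ∀ t : W.left, t ∈ Set.range j₁.left ∨ t ∈ Set.range j₂.left) (a b : P.obj (op W))
    (h₁ : P.map j₁.op a = P.map j₁.op b) (h₂ : P.map j₂.op a = P.map j₂.op b) : a = b := by
  let E : PreZeroHypercover.{0} W :=
    { I₀ := Bool
      X := fun i => match i with
        | true => W₁
        | false => W₂
      f := fun i => match i with
        | true => j₁
        | false => j₂ }
  have hE : IsHCover (E.map (Over.forget S)) := by
    have hf : Finite (E.map (Over.forget S)).I₀ := inferInstanceAs (Finite Bool)
    have i1 : ∀ i, IsClosedImmersion ((E.map (Over.forget S)).f i) := by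
      rintro (_ | _)
      · exact inferInstanceAs (IsClosedImmersion j₂.left)
      · exact inferInstanceAs (IsClosedImmersion j₁.left)
    have i2 : ∀ i, LocallyOfFinitePresentation ((E.map (Over.forget S)).f i) := by
      rintro (_ | _)
      · exact inferInstanceAs (LocallyOfFinitePresentation j₂.left)
      · exact inferInstanceAs (LocallyOfFinitePresentation j₁.left)
    refine isHCover_of_isClosedImmersion _ ?_
    intro t
    rcases hs t with ⟨x, hx⟩ | ⟨x, hx⟩
    · exact ⟨true, x, hx⟩
    · exact ⟨false, x, hx⟩
  have h := K346.Site.isSheafFor_of_isHCover hP E hE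
  refine h.isSeparatedFor.ext ?_
  rintro Y f ⟨i⟩
  match i with
  | true => exact h₁
  | false => exact h₂

end K348.HCart
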