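import Groth.Agent.HTop.K348.Factor
import Groth.Agent.S7398
import Groth.Agent.S7421
import Groth.Agent.Ega1.ReducedSub
import Mathlib.AlgebraicGeometry.Morphisms.Affine

/-! # Sections of subintegral universal homeomorphisms over a seminormal scheme -/

set_option autoImplicit false
universe u

open AlgebraicGeometry CategoryTheory Limits
open Groth.Agent.FlatA.UnivHomeo

namespace K348.SemiSect

theorem eq_of_sq_of_cube {C : Type u} [CommRing C] [_root_.IsReduced C] {a d : C} (h2 : a ^ 2 = d ^ 2)
    (h3 : a ^ 3 = d ^ 3) : a = d := by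
  have h : (a - d) ^ 3 = 0 := by
    have : (a - d) ^ 3 = (a ^ 3 - d ^ 3) - 3 * d * (a ^ 2 - d ^ 2) + 3 * a * (d ^ 2 - a ^ 2) +
      3 * (a ^ 3 - d ^ 3) := by ring
    rw [this, h2, h3]
    ring
  exact sub_eq_zero.1 (pow_eq_zero_iff (by norm_num) |>.1 h)

/-- A seminormal ring has no proper reduced extension whose spectrum is subintegral. -/
theorem bijective_of_isSeminormalRing {A B : Type u} [CommRing A] [CommRing B]
    (hA : HTop.IsSeminormalRing A) [_root_.IsReduced B] (φ : A →+* B)
    (hU : FlatMor.IsUnivHomeo (Spec.map (CommRingCat.ofHom φ)))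
    (hres : HTop.ResidueFieldsIso (Spec.map (CommRingCat.ofHom φ))) :
    Function.Bijective φ := by
  have hAr : _root_.IsReduced A := Groth.Agent.S7421.result.1 A hA
  have hinj : Function.Injective φ := by
    rw [injective_iff_map_eq_zero]
    intro a ha
    have hs := ((isUnivHomeo_iff _).mp hU).2.2
    have : a ∈ nilradical A := by
      rw [nilradical, Ideal.radical_eq_sInf, Ideal.mem_sInf]
      rintro P ⟨-, hP⟩
      obtain ⟨Q, hQ⟩ := hs.surj (⟨P, hP⟩ : PrimeSpectrum A)
      have h1 : (Ideal.comap φ (show PrimeSpectrum B from Q).asIdeal) = P :=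
        congrArg PrimeSpectrum.asIdeal hQ
      rw [← h1, Ideal.mem_comap, ha]
      exact Ideal.zero_mem _
    exact (mem_nilradical.mp this).eq_zero
  refine ⟨hinj, ?_⟩
  by_contra hns
  obtain ⟨b, hb, ⟨x, hx⟩, ⟨y, hy⟩⟩ := Groth.Agent.S7398.result φ hinj hns hU
    (fun x => (K348.Res.isIso_iff_surjective _ x).mp (hres x))
  obtain ⟨a, ⟨ha2, ha3⟩, -⟩ := hA x y (hinj (by rw [map_pow, map_pow, hx, hy]; ring))
  apply hb
  refine ⟨a, eq_of_sq_of_cube ?_ ?_⟩
  · rw [← map_pow, ← ha2, hx]
  · rw [← map_pow, ← ha3, hy]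

lemma isPullback_fromSpec {X Y : Scheme.{u}} (f : X ⟶ Y) [IsAffineHom f] {V : Y.Opens} (hV : IsAffineOpen V) :
    IsPullback (hV.preimage f).fromSpec (Spec.map (f.app V)) f hV.fromSpec := by
  refine (IsOpenImmersion.isPullback _ _ _ _ ?_ ?_).flip
  · rw [Scheme.Hom.app_eq_appLE]
    exact (hV.SpecMap_appLE_fromSpec f (hV.preimage f) le_rfl).symm
  · rw [IsAffineOpen.opensRange_fromSpec, IsAffineOpen.opensRange_fromSpec]

/-- A reduced scheme over a seminormal scheme `X` by a universal homeomorphism with trivial residue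
field extensions is isomorphic to `X`. -/
theorem isIso_of_isSeminormal {X Y : Scheme.{u}} (hX : HTop.IsSeminormal X) (π : Y ⟶ X)
    (h1 : FlatMor.IsUnivHomeo π) (h2 : HTop.ResidueFieldsIso π) [IsReduced Y] : IsIso π := by
  have hK := K348.RFI.kbij_of_isUnivHomeo h1 h2
  have : IsAffineHom π := isAffineHom_of_isUnivHomeo h1
  choose U hxU hU using hX
  have hsup : ⨆ x : X, (U x : X.Opens) = ⊤ := by
    rw [eq_top_iff]
    intro x _
    exact TopologicalSpace.Opens.mem_iSup.mpr ⟨x, hxU x⟩
  refine (IsZariskiLocalAtTarget.iff_of_iSup_eq_top (P := .isomorphisms Scheme) (fun x => (U x : X.Opens)) hsup).mpr ?_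
  intro x
  refine (isIso_morphismRestrict_iff_isIso_app π (U x).2).mpr ?_
  have hp := isPullback_fromSpec π (U x).2
  have k1 : FlatMor.IsUnivHomeo (Spec.map (π.app (U x).1)) := isUnivHomeo_of_isPullback hp h1
  have k2 : HTop.ResidueFieldsIso (Spec.map (π.app (U x).1)) :=
    (K348.RFI.KBij.of_isPullback hp hK).residueFieldsIso
  rw [ConcreteCategory.isIso_iff_bijective]
  exact bijective_of_isSeminormalRing (hU x) (π.app (U x).1).hom k1 k2

/-- Sections of a subintegral universal homeomorphism over a seminormal scheme. -/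
theorem exists_section {X Y : Scheme.{u}} (hX : HTop.IsSeminormal X) (π : Y ⟶ X)
    (h1 : FlatMor.IsUnivHomeo π) (h2 : HTop.ResidueFieldsIso π) : ∃ s : X ⟶ Y, s ≫ π = 𝟙 X := by
  have hred : IsReduced Y.nilradical.subscheme :=
    Groth.Agent.Ega1.ReducedSub.isReduced_subscheme_radical _
  have hs : Surjective Y.nilradical.subschemeι := by
    rw [surjective_iff, ← Set.range_eq_univ, Scheme.IdealSheafData.range_subschemeι,
      Scheme.support_nilradical]
    rfl
  have hi : IsIso (Y.nilradical.subschemeι ≫ π) :=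
    isIso_of_isSeminormal hX _
      (K348.Factor.isUnivHomeo_comp (K348.Factor.isUnivHomeo_of_isClosedImmersion _) h1)
      (K348.RFI.comp (K348.RFI.of_isClosedImmersion _) h2)
  exact ⟨inv (Y.nilradical.subschemeι ≫ π) ≫ Y.nilradical.subschemeι, by simp⟩

/-- Two morphisms over a separated universally injective morphism from a reduced scheme agree. -/
theorem hom_eq_of_universallyInjective {X Y Z : Scheme.{u}} [IsReduced Z] (π : Y ⟶ X)
    [UniversallyInjective π] [IsSeparated π] (s t : Z ⟶ Y) (h : s ≫ π = t ≫ π) : s = t := by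
  let l : Z ⟶ pullback π π := pullback.lift s t h
  let i := pullback.fst l (pullback.diagonal π)
  have hsd : Surjective (pullback.diagonal π) := (UniversallyInjective.iff_diagonal π).mp inferInstance
  have hi : IsClosedImmersion i := inferInstance
  have hs : Surjective i := inferInstance
  have : IsIso i := isIso_of_isClosedImmersion_of_surjective i
  have hc : i ≫ l = pullback.snd _ _ ≫ pullback.diagonal π := pullback.condition
  have h1 : i ≫ s = pullback.snd _ _ := by
    have := congr($hc ≫ pullback.fst _ _)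
    rwa [Category.assoc, Category.assoc, pullback.lift_fst, pullback.diagonal_fst,
      Category.comp_id] at this
  have h2 : i ≫ t = pullback.snd _ _ := by
    have := congr($hc ≫ pullback.snd _ _)
    rwa [Category.assoc, Category.assoc, pullback.lift_snd, pullback.diagonal_snd,
      Category.comp_id] at this
  rw [← cancel_epi i, h1, h2]

/-- Lifting a morphism from a seminormal scheme through a subintegral universal homeomorphism. -/
theorem existsUnique_lift {X Y Z : Scheme.{u}} (hZ : HTop.IsSeminormal Z) (π : Y ⟶ X)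
    (h1 : FlatMor.IsUnivHomeo π) (h2 : HTop.ResidueFieldsIso π) (g : Z ⟶ X) :
    ∃! s : Z ⟶ Y, s ≫ π = g := by
  have hZr : IsReduced Z := Groth.Agent.S7421.result.2 Z hZ
  have hK := K348.RFI.kbij_of_isUnivHomeo h1 h2
  have hp := IsPullback.of_hasPullback π g
  obtain ⟨s, hs⟩ := exists_section hZ (pullback.snd π g) (isUnivHomeo_of_isPullback hp h1)
    (K348.RFI.KBij.of_isPullback hp hK).residueFieldsIso
  have i1 : UniversallyInjective π := universallyInjective_of_isUnivHomeo h1
  have i2 : IsAffineHom π := isAffineHom_of_isUnivHomeo h1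
  refine ⟨s ≫ pullback.fst π g, ?_, fun t ht => ?_⟩
  · dsimp only
    rw [Category.assoc, pullback.condition, reassoc_of% hs]
  · apply hom_eq_of_universallyInjective π
    rw [Category.assoc, pullback.condition, reassoc_of% hs, ht]

end K348.SemiSect
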