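import Groth.Agent.S9689
import Groth.Agent.HTop.K348.SemiSect
import Mathlib.AlgebraicGeometry.Normalization
import Mathlib.FieldTheory.PurelyInseparable.Basic

/-! # The normalization of a geometrically unibranch integral scheme in a purely inseparable
extension of its function field -/

set_option autoImplicit false
universe u
open CategoryTheory CategoryTheory.Limits AlgebraicGeometry

namespace K348.NormPI

/-- A property stable under base change passes from `Spec` of the section map to the restriction. -/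
theorem restrict_of_Spec {P : MorphismProperty Scheme.{u}} [P.IsStableUnderBaseChange]
    {X Y : Scheme.{u}} (f : X ⟶ Y) [IsAffineHom f] {U : Y.Opens} (hU : IsAffineOpen U)
    (h : P (Spec.map (f.app U))) : P (f ∣_ U) := by
  have h1 := K348.SemiSect.isPullback_fromSpec f hU
  have h2 := (isPullback_morphismRestrict f U).flip
  have hc : (f ⁻¹ᵁ U).ι ≫ f = (f ∣_ U ≫ hU.isoSpec.hom) ≫ hU.fromSpec := by
    rw [Category.assoc, IsAffineOpen.isoSpec_hom, IsAffineOpen.toSpecΓ_fromSpec, morphismRestrict_ι]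
  have h3 : IsPullback (h1.lift (f ⁻¹ᵁ U).ι (f ∣_ U ≫ hU.isoSpec.hom) hc) (f ∣_ U)
      (Spec.map (f.app U)) hU.isoSpec.hom := by
    refine IsPullback.of_right ?_ (h1.lift_snd _ _ hc) h1
    rw [h1.lift_fst, IsAffineOpen.isoSpec_hom, IsAffineOpen.toSpecΓ_fromSpec]
    exact h2
  exact MorphismProperty.of_isPullback h3 h

theorem universallyInjective_of_affine {X Y : Scheme.{u}} (f : X ⟶ Y) [IsAffineHom f]
    (h : ∀ U : Y.affineOpens, (U : Set Y).Nonempty → UniversallyInjective (Spec.map (f.app U.1))) :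
    UniversallyInjective f := by
  refine (IsZariskiLocalAtTarget.iff_of_iSup_eq_top (P := @UniversallyInjective)
    (fun U : {U : Y.affineOpens // (U : Set Y).Nonempty} => (U.1.1 : Y.Opens)) ?_).mpr ?_
  · rw [eq_top_iff]
    intro x _
    obtain ⟨U, hU, hxU, -⟩ := exists_isAffineOpen_mem_and_subset (X := Y) (x := x) (U := ⊤) trivial
    exact TopologicalSpace.Opens.mem_iSup.mpr ⟨⟨⟨U, hU⟩, ⟨x, hxU⟩⟩, hxU⟩
  · intro U
    exact restrict_of_Spec f U.1.2 (h U.1 U.2)

theorem exists_pow_of_top {K L : CommRingCat.{u}} (φ : K ⟶ L) (q : ℕ)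
    (hq : ∀ x : L, ∃ n : ℕ, x ^ q ^ n ∈ φ.hom.range) (W : (Spec K).Opens) (hW : W = ⊤)
    (x : Γ(Spec L, Spec.map φ ⁻¹ᵁ W)) :
    ∃ n : ℕ, x ^ q ^ n ∈ ((Spec.map φ).app W).hom.range := by
  subst hW
  have x' : Γ(Spec L, ⊤) := x
  obtain ⟨n, z, hz⟩ := hq ((Scheme.ΓSpecIso L).hom x)
  refine ⟨n, (Scheme.ΓSpecIso K).inv z, ?_⟩
  have h1 := congr($(Scheme.ΓSpecIso_inv_naturality φ) z)
  have h2 : (Scheme.ΓSpecIso L).inv (φ z) = x ^ q ^ n := by
    change (Scheme.ΓSpecIso L).inv (φ.hom z) = x ^ q ^ n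
    rw [hz, map_pow]
    congr 1
    exact congr($((Scheme.ΓSpecIso L).hom_inv_id) x)
  exact h1.symm.trans h2

theorem injective_of_top {K L : CommRingCat.{u}} (φ : K ⟶ L) (hφ : Function.Injective φ.hom)
    (W : (Spec K).Opens) (hW : W = ⊤) : Function.Injective ((Spec.map φ).app W).hom := by
  subst hW
  have h1 := Scheme.ΓSpecIso_naturality φ
  intro x y hxy
  have h2 : ∀ z : Γ(Spec K, ⊤), (Scheme.ΓSpecIso L).hom ((Spec.map φ).appTop z) =
    φ ((Scheme.ΓSpecIso K).hom z) := fun z => congr($h1 z)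
  have h3 : φ ((Scheme.ΓSpecIso K).hom x) = φ ((Scheme.ΓSpecIso K).hom y) := by
    rw [← h2, ← h2]
    exact congrArg _ hxy
  have h4 := hφ h3
  have h5 := congrArg (Scheme.ΓSpecIso K).inv h4
  have h6 : ∀ z : Γ(Spec K, ⊤), (Scheme.ΓSpecIso K).inv ((Scheme.ΓSpecIso K).hom z) = z :=
    fun z => congr($((Scheme.ΓSpecIso K).hom_inv_id) z)
  rwa [h6, h6] at h5

/-- Ring-level statement: ring maps out of the integral closure in a purely inseparable extension. -/
theorem ringHom_eq {A K L : Type u} [CommRing A] [IsDomain A] [CommRing K] [CommRing L]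
    [Algebra A K] [IsFractionRing A K] [Algebra A L] (κ : K →+* L)
    (hκ : κ.comp (algebraMap A K) = algebraMap A L) (hκi : Function.Injective κ) (q : ℕ) [ExpChar A q]
    (hq : ∀ x : L, ∃ n : ℕ, x ^ q ^ n ∈ κ.range)
    (h : Groth.Agent.Ega43.Unibranch.AllGeomUnibranch A)
    {Ω : Type*} [Field Ω] (φ₁ φ₂ : integralClosure A L →+* Ω)
    (h12 : φ₁.comp (algebraMap A _) = φ₂.comp (algebraMap A _)) : φ₁ = φ₂ := by
  let κA : K →ₐ[A] L := { κ with commutes' := fun a => congr($hκ a) }
  let j : integralClosure A K →+* integralClosure A L := (κA.mapIntegralClosure).toRingHom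
  have hj : ∀ x, ((j x : integralClosure A L) : L) = κ x := fun x => rfl
  have key : φ₁.comp j = φ₂.comp j := by
    refine Groth.Agent.S9689.ringHom_eq h _ _ ?_
    ext a
    have h1 : j (algebraMap A _ a) = algebraMap A _ a := (κA.mapIntegralClosure).commutes a
    simp only [RingHom.comp_apply, h1]
    exact congr($h12 a)
  ext x
  obtain ⟨n, z, hz⟩ := hq (x : L)
  have hzint : IsIntegral A z := by
    have h1 : IsIntegral A (κA z) := by
      change IsIntegral A (κ z)
      rw [hz]
      exact x.2.pow _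
    exact (isIntegral_algHom_iff κA hκi).mp h1
  have hjz : j ⟨z, hzint⟩ = x ^ q ^ n := by
    apply Subtype.ext
    rw [hj]
    exact hz
  have h2 : φ₁ x ^ q ^ n = φ₂ x ^ q ^ n := by
    rw [← map_pow, ← map_pow, ← hjz]
    exact congr($key ⟨z, hzint⟩)
  cases ‹ExpChar A q› with
  | zero => simpa using h2
  | prime hp =>
    have : Fact q.Prime := ⟨hp⟩
    have hcΩ : CharP Ω q := by
      have h3 : (q : Ω) = 0 := by
        have h4 : ((q : A)) = 0 := CharP.cast_eq_zero A q
        have h5 := congrArg (φ₁.comp (algebraMap A _)) h4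
        rwa [map_natCast, map_zero] at h5
      exact (CharP.charP_iff_prime_eq_zero hp).mpr h3
    exact iterateFrobenius_inj Ω q n (by simpa [iterateFrobenius_def] using h2)

end K348.NormPI
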