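import Groth.Agent.Unram17.K134.NoethModel
import Groth.Agent.Smoothlim.ProperDescend
import Groth.Agent.Smoothlim.ClosedStage
import Groth.Agent.Etcore.FGLim
import Groth.Agent.FlatA.SteinNoeth
import Groth.Agent.FlatMor.K262.NilFT

/-! # Descent of finite type along proper surjective morphisms

Let `R → A` be a map of Noetherian rings and `f : Y → Spec A` a proper surjective morphism. If `Y → Spec R` is
locally of finite type then `A` is of finite type over `R`. -/

set_option autoImplicit false
universe u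
open CategoryTheory CategoryTheory.Limits AlgebraicGeometry Opposite
open Groth.Agent.Smoothlim.LimBase

namespace K348.PropFT

/-- A proper finitely presented scheme over a limit, locally of finite type over a base of the system, is proper over
some stage. -/
theorem exists_isProper_stage_cone {I : Type u} [SmallCategory I] [IsCofiltered I]
    (D : I ⥤ Scheme.{u}) (c : Cone D) (hc : IsLimit c) [∀ (i j : I) (f : i ⟶ j), IsAffineHom (D.map f)]
    [∀ i, CompactSpace (D.obj i)] [∀ i, QuasiSeparatedSpace (D.obj i)] {Y : Scheme.{u}} (f : Y ⟶ c.pt)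
    [IsProper f] [LocallyOfFinitePresentation f] {S : Scheme.{u}} (t : ∀ i, D.obj i ⟶ S)
    (ht : ∀ i, LocallyOfFiniteType (f ≫ c.π.app i ≫ t i)) : ∃ i, IsProper (f ≫ c.π.app i) := by
  obtain ⟨i, Xi, fi, g, h1, h2, h3, h4, h5⟩ := K134.NoethModel.exists_stage_prop (Q := FTQS)
    (P := @IsProper) (fun {X Y} f h1 h2 h3 => ⟨⟨inferInstance, h2⟩, h3⟩)
    descendsAffine_isProper D c hc f inferInstance
  have h1' : IsProper fi := h1
  let E := pbDiag D i fi
  have hEa : ∀ {a b} (φ : a ⟶ b), IsAffineHom (E.map φ) := fun φ => isAffineHom_pbDiag_map D i fi φ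
  let cE : Cone E := pbCone i fi c g f h5.toCommSq
  have hcE : IsLimit cE := isLimitPbCone i fi c hc g f h5
  let s (k : Over i) : E.obj k ⟶ D.obj k.left := pullback.snd fi (D.map k.hom)
  have hs : ∀ k, IsProper (s k) := fun k => inferInstanceAs (IsProper (pullback.snd fi (D.map k.hom)))
  let q (k : Over i) : Y ⟶ E.obj k := cE.π.app k
  have hw : ∀ k, q k ≫ s k = f ≫ c.π.app k.left := fun k => pullback.lift_snd _ _ _
  let k₀ : Over i := Over.mk (𝟙 i)
  have hk₀ : CompactSpace (E.obj k₀) := QuasiCompact.compactSpace_of_compactSpace (s k₀)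
  let hY : Y ⟶ cE.pt := 𝟙 Y
  have hYc : IsClosedImmersion hY := inferInstanceAs (IsClosedImmersion (𝟙 Y))
  have hq : ∀ k, hY ≫ cE.π.app k = q k := fun k => Category.id_comp _
  have hp' : LocallyOfFiniteType ((hY ≫ cE.π.app k₀) ≫ (s k₀ ≫ t k₀.left)) := by
    rw [hq, ← Category.assoc, hw, Category.assoc]
    exact ht _
  obtain ⟨k, -, hk⟩ := Groth.Agent.Smoothlim.ClosedStage.exists_isClosedImmersion E cE hcE hY k₀
    (s k₀ ≫ t k₀.left)
  rw [hq] at hk
  have := hs k
  refine ⟨k.left, ?_⟩
  rw [← hw]
  infer_instance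

open Groth.Agent.Etcore.FGLim in
/-- A proper finitely presented `Spec A`-scheme which is locally of finite type over `R` is proper over some finitely
generated `R`-subalgebra of `A`. -/
theorem exists_isProper_stage (R A : Type u) [CommRing R] [CommRing A] [Algebra R A] {Y : Scheme.{u}}
    (f : Y ⟶ Spec (CommRingCat.of A)) [IsProper f] [LocallyOfFinitePresentation f]
    [LocallyOfFiniteType (f ≫ Spec.map (CommRingCat.ofHom (algebraMap R A)))] :
    ∃ B : Subalgebra R A, B.FG ∧
      IsProper (f ≫ Spec.map (CommRingCat.ofHom (algebraMap B A))) := by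
  let D : (FGSub R A)ᵒᵖ ⥤ Scheme.{u} := (fgSys R A).op ⋙ Scheme.Spec
  let c : Cone D := Scheme.Spec.mapCone (fgCocone R A).op
  have hc : IsLimit c := isLimitOfPreserves Scheme.Spec (isColimitFG R A).op
  have i0 : ∀ i, IsAffine (D.obj i) := fun i => inferInstanceAs (IsAffine (Spec (CommRingCat.of i.unop.1)))
  have i1 : ∀ i, CompactSpace (D.obj i) := fun i => inferInstance
  have i2 : ∀ i, QuasiSeparatedSpace (D.obj i) := fun i => inferInstance
  have i3 : ∀ (i j) (a : i ⟶ j), IsAffineHom (D.map a) := fun _ _ a => inferInstance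
  have j1 : LocallyOfFinitePresentation (Y := c.pt) f := ‹LocallyOfFinitePresentation f›
  have j2 : IsProper (Y := c.pt) f := ‹IsProper f›
  let t (i : (FGSub R A)ᵒᵖ) : D.obj i ⟶ Spec (CommRingCat.of R) :=
    Spec.map (CommRingCat.ofHom (algebraMap R i.unop.1))
  have ht : ∀ i, c.π.app i ≫ t i = Spec.map (CommRingCat.ofHom (algebraMap R A)) := fun i =>
    (Spec.map_comp (CommRingCat.ofHom (algebraMap R i.unop.1))
      (CommRingCat.ofHom i.unop.1.val.toRingHom)).symm
  obtain ⟨i, hi⟩ := exists_isProper_stage_cone D c hc (Y := Y) f t (by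
    intro i
    rw [ht]
    assumption)
  exact ⟨i.unop.1, i.unop.2, hi⟩

/-- Finite type descends along proper surjective morphisms (affine target, Noetherian rings). -/
theorem finiteType_of_proper_surjective (R A : Type u) [CommRing R] [CommRing A] [Algebra R A]
    [IsNoetherianRing R] [IsNoetherianRing A] {Y : Scheme.{u}}
    (f : Y ⟶ Spec (CommRingCat.of A)) [IsProper f] [Surjective f]
    [LocallyOfFiniteType (f ≫ Spec.map (CommRingCat.ofHom (algebraMap R A)))] :
    Algebra.FiniteType R A := by
  have hfp : LocallyOfFinitePresentation f := inferInstance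
  obtain ⟨B, hB, hprop⟩ := exists_isProper_stage R A f
  have hBf : Algebra.FiniteType R B := (Subalgebra.fg_iff_finiteType _).mp hB
  have hBn : IsNoetherianRing B := Algebra.FiniteType.isNoetherianRing R B
  let φ : A →+* Γ(Y, ⊤) := ((Scheme.ΓSpecIso (CommRingCat.of A)).inv ≫ f.appTop).hom
  have h1 := Groth.Agent.FlatA.SteinNoeth.finite_toGlobal B Y
    (f ≫ Spec.map (CommRingCat.ofHom (algebraMap B A)))
  have h2 : ((Scheme.ΓSpecIso (CommRingCat.of B)).inv ≫
      (f ≫ Spec.map (CommRingCat.ofHom (algebraMap B A))).appTop).hom = φ.comp (algebraMap B A) := by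
    rw [Scheme.Hom.comp_appTop]
    have h3 := Scheme.ΓSpecIso_inv_naturality (CommRingCat.ofHom (algebraMap B A))
    rw [← Category.assoc]
    have h4 : (Scheme.ΓSpecIso (CommRingCat.of B)).inv ≫
      (Spec.map (CommRingCat.ofHom (algebraMap B A))).appTop =
        CommRingCat.ofHom (algebraMap B A) ≫ (Scheme.ΓSpecIso (CommRingCat.of A)).inv := h3.symm
    rw [h4, Category.assoc]
    rfl
  rw [h2] at h1
  -- the kernel of `φ` is nil
  have h5 : ∀ a ∈ RingHom.ker φ, IsNilpotent a := by
    intro a ha
    rw [← PrimeSpectrum.basicOpen_eq_bot_iff, eq_bot_iff]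
    intro x hx
    obtain ⟨y, hy⟩ := f.surjective x
    have h9 : y ∈ f ⁻¹ᵁ ((Spec (CommRingCat.of A)).basicOpen
        ((Scheme.ΓSpecIso (CommRingCat.of A)).inv.hom a)) := by
      rw [Scheme.Hom.mem_preimage, hy, basicOpen_eq_of_affine']
      have h10 : (Scheme.ΓSpecIso (CommRingCat.of A)).hom.hom
        ((Scheme.ΓSpecIso (CommRingCat.of A)).inv.hom a) = a :=
          congr($((Scheme.ΓSpecIso (CommRingCat.of A)).inv_hom_id) a)
      rwa [h10]
    rw [Scheme.preimage_basicOpen_top] at h9
    have h11 : f.appTop.hom ((Scheme.ΓSpecIso (CommRingCat.of A)).inv.hom a) = 0 := ha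
    rw [h11, Scheme.basicOpen_zero] at h9
    exact absurd h9 (by simp)
  have h6 : IsNilpotent (RingHom.ker φ) :=
    (Ideal.FG.isNilpotent_iff_le_nilradical (IsNoetherian.noetherian _)).mpr h5
  refine K262.NilFT.finiteType_of_quotient_fg (RingHom.ker φ) h6 (IsNoetherian.noetherian _) ?_
  have h7 : Module.Finite B (A ⧸ RingHom.ker φ) := by
    let _ : Algebra B Γ(Y, ⊤) := (φ.comp (algebraMap B A)).toAlgebra
    have h12 : Module.Finite B Γ(Y, ⊤) := h1
    let ψ : (A ⧸ RingHom.ker φ) →ₗ[B] Γ(Y, ⊤) :=
      { (RingHom.kerLift φ).toAddMonoidHom with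
        map_smul' := by
          intro b x
          obtain ⟨x, rfl⟩ := Ideal.Quotient.mk_surjective x
          change RingHom.kerLift φ (b • (Ideal.Quotient.mk (RingHom.ker φ) x)) =
            b • (RingHom.kerLift φ (Ideal.Quotient.mk (RingHom.ker φ) x))
          rw [Algebra.smul_def, Algebra.smul_def, map_mul]
          rfl }
    exact Module.Finite.of_injective ψ (RingHom.kerLift_injective φ)
  have h8 : Algebra.FiniteType B (A ⧸ RingHom.ker φ) := inferInstance
  exact Algebra.FiniteType.trans (S := B) inferInstance h8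

end K348.PropFT
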