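import Groth.Agent.S7420

/-! # Open subschemes of seminormal schemes -/

set_option autoImplicit false
universe u

open AlgebraicGeometry CategoryTheory Limits

namespace K348.SemiOpen

theorem isSeminormal_opens {X : Scheme.{u}} (hX : HTop.IsSeminormal X) (V : X.Opens) :
    HTop.IsSeminormal V.toScheme := by
  rw [(Groth.Agent.S7420.result V.toScheme).1]
  intro W
  have h := (Groth.Agent.S7420.result X).1.mp hX ⟨V.ι ''ᵁ W.1, W.2.image_of_isOpenImmersion V.ι⟩
  exact h

end K348.SemiOpen
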