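import Groth.Prelude.Def_HTop2
import Groth.Prelude.Def_Pi1
import Groth.Agent.S15941

/-! # A scheme with seminormal stalks (e.g. a normal scheme) is seminormal -/

set_option autoImplicit false
universe u

open AlgebraicGeometry CategoryTheory Limits TopologicalSpace

namespace K348.SemiStalk

theorem isSeminormalRing_sections {X : Scheme.{u}}
    (H : ∀ x : X, HTop.IsSeminormalRing (X.presheaf.stalk x)) (U : X.Opens) :
    HTop.IsSeminormalRing Γ(X, U) := by
  intro a b hab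
  have key : ∀ x : U, ∃ (V : X.Opens) (_ : V ≤ U) (_ : x.1 ∈ V) (c : Γ(X, V)),
      ∀ (y : X) (hy : y ∈ V) (hyU : y ∈ U),
        X.presheaf.germ U y hyU a = X.presheaf.germ V y hy c ^ 2 ∧
        X.presheaf.germ U y hyU b = X.presheaf.germ V y hy c ^ 3 := by
    rintro ⟨x, hx⟩
    obtain ⟨c, ⟨hc2, hc3⟩, -⟩ := H x (X.presheaf.germ U x hx a) (X.presheaf.germ U x hx b)
      (by rw [← map_pow, hab, map_pow])
    obtain ⟨V, hVU, hxV, s, rfl⟩ := TopCat.Presheaf.exists_le_germ_eq X.presheaf c hx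
    rw [← map_pow] at hc2 hc3
    obtain ⟨W2, hx2, i2, j2, e2⟩ := TopCat.Presheaf.germ_eq X.presheaf x hx hxV a (s ^ 2) hc2
    obtain ⟨W3, hx3, i3, j3, e3⟩ := TopCat.Presheaf.germ_eq X.presheaf x hx hxV b (s ^ 3) hc3
    refine ⟨W2 ⊓ W3, inf_le_left.trans i2.le, ⟨hx2, hx3⟩,
      X.presheaf.map (homOfLE (inf_le_left.trans j2.le)).op s, fun y hy hyU => ?_⟩
    have h0 : X.presheaf.germ (W2 ⊓ W3) y hy (X.presheaf.map (homOfLE (inf_le_left.trans j2.le)).op s)
      = X.presheaf.germ V y (j2.le hy.1) s := X.presheaf.germ_res_apply (homOfLE (inf_le_left.trans j2.le)) y hy s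
    rw [h0]
    constructor
    · have h1 := congrArg (X.presheaf.germ W2 y hy.1) e2
      have h2 : X.presheaf.germ W2 y hy.1 (X.presheaf.map i2.op a) = X.presheaf.germ U y hyU a :=
        X.presheaf.germ_res_apply i2 y hy.1 a
      have h3 : X.presheaf.germ W2 y hy.1 (X.presheaf.map j2.op (s ^ 2)) =
        X.presheaf.germ V y (j2.le hy.1) (s ^ 2) := X.presheaf.germ_res_apply j2 y hy.1 (s ^ 2)
      rw [← h2, ← map_pow, ← h3]
      exact h1
    · have h1 := congrArg (X.presheaf.germ W3 y hy.2) e3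
      have h2 : X.presheaf.germ W3 y hy.2 (X.presheaf.map i3.op b) = X.presheaf.germ U y hyU b :=
        X.presheaf.germ_res_apply i3 y hy.2 b
      have h3 : X.presheaf.germ W3 y hy.2 (X.presheaf.map j3.op (s ^ 3)) =
        X.presheaf.germ V y (j3.le hy.2) (s ^ 3) := X.presheaf.germ_res_apply j3 y hy.2 (s ^ 3)
      rw [← h2, ← map_pow, ← h3]
      exact h1
  have uniq : ∀ (y : X) (c d : X.presheaf.stalk y), c ^ 2 = d ^ 2 → c ^ 3 = d ^ 3 → c = d := by
    intro y c d h2 h3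
    obtain ⟨e, -, he⟩ := H y (d ^ 2) (d ^ 3) (by ring)
    rw [he c ⟨h2.symm, h3.symm⟩, he d ⟨rfl, rfl⟩]
  choose V hVU hxV c hc using key
  have hcomp : TopCat.Presheaf.IsCompatible X.sheaf.1 V c := by
    intro x y
    refine TopCat.Presheaf.section_ext X.sheaf _ _ _ (fun z hz => ?_)
    have h1 : X.presheaf.germ (V x ⊓ V y) z hz (X.presheaf.map (Opens.infLELeft (V x) (V y)).op (c x)) =
        X.presheaf.germ (V x) z hz.1 (c x) := X.presheaf.germ_res_apply (Opens.infLELeft (V x) (V y)) z hz (c x)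
    have h2 : X.presheaf.germ (V x ⊓ V y) z hz (X.presheaf.map (Opens.infLERight (V x) (V y)).op (c y)) =
        X.presheaf.germ (V y) z hz.2 (c y) := X.presheaf.germ_res_apply (Opens.infLERight (V x) (V y)) z hz (c y)
    refine h1.trans (Eq.trans ?_ h2.symm)
    have hzU := hVU x hz.1
    apply uniq
    · rw [← (hc x z hz.1 hzU).1, ← (hc y z hz.2 hzU).1]
    · rw [← (hc x z hz.1 hzU).2, ← (hc y z hz.2 hzU).2]
  obtain ⟨g, hg⟩ : ∃ g : Γ(X, U), ∀ x : U, X.presheaf.map (homOfLE (hVU x)).op g = c x := by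
    obtain ⟨g, hg, -⟩ := X.sheaf.existsUnique_gluing' V U (fun x => homOfLE (hVU x))
      (fun x hx => Opens.mem_iSup.mpr ⟨⟨x, hx⟩, hxV _⟩) c hcomp
    exact ⟨g, hg⟩
  have hgerm : ∀ (x : X) (hx : x ∈ U), X.presheaf.germ U x hx g =
      X.presheaf.germ (V ⟨x, hx⟩) x (hxV _) (c ⟨x, hx⟩) := by
    intro x hx
    have h2 : X.presheaf.germ (V ⟨x, hx⟩) x (hxV _) (X.presheaf.map (homOfLE (hVU ⟨x, hx⟩)).op g) =
        X.presheaf.germ U x hx g := X.presheaf.germ_res_apply (homOfLE (hVU ⟨x, hx⟩)) x (hxV _) g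
    rw [← h2]
    exact congrArg _ (hg ⟨x, hx⟩)
  refine ⟨g, ⟨?_, ?_⟩, ?_⟩
  · refine TopCat.Presheaf.section_ext X.sheaf _ _ _ (fun x hx => ?_)
    change X.presheaf.germ U x hx a = X.presheaf.germ U x hx (g ^ 2)
    rw [map_pow, hgerm x hx]
    exact (hc ⟨x, hx⟩ x (hxV _) hx).1
  · refine TopCat.Presheaf.section_ext X.sheaf _ _ _ (fun x hx => ?_)
    change X.presheaf.germ U x hx b = X.presheaf.germ U x hx (g ^ 3)
    rw [map_pow, hgerm x hx]
    exact (hc ⟨x, hx⟩ x (hxV _) hx).2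
  · rintro d ⟨hd2, hd3⟩
    refine TopCat.Presheaf.section_ext X.sheaf _ _ _ (fun x hx => ?_)
    change X.presheaf.germ U x hx d = X.presheaf.germ U x hx g
    apply uniq
    · rw [hgerm x hx, ← (hc ⟨x, hx⟩ x (hxV _) hx).1, ← map_pow, hd2]
    · rw [hgerm x hx, ← (hc ⟨x, hx⟩ x (hxV _) hx).2, ← map_pow, hd3]

theorem isSeminormal_of_stalk {X : Scheme.{u}}
    (H : ∀ x : X, HTop.IsSeminormalRing (X.presheaf.stalk x)) : HTop.IsSeminormal X := by
  intro x
  obtain ⟨U, hU, hxU, -⟩ := exists_isAffineOpen_mem_and_subset (X := X) (x := x) (U := ⊤) trivial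
  exact ⟨⟨U, hU⟩, hxU, isSeminormalRing_sections H U⟩

theorem isSeminormal_of_isNormalScheme {X : Scheme.{u}} (h : Pi1.IsNormalScheme X) :
    HTop.IsSeminormal X :=
  isSeminormal_of_stalk fun x => by
    have h1 := (h x).1
    have h2 := (h x).2
    exact Groth.Agent.S15941.result _

end K348.SemiStalk
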