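import Groth.Agent.FlatA.UnivHomeo
import Groth.Prelude.Def_HTop2
import Mathlib.AlgebraicGeometry.Morphisms.Flat
import Mathlib.AlgebraicGeometry.PullbackCarrier

/-! # Universally injective morphisms tested on field-valued points of a cover -/

set_option autoImplicit false
universe u

open AlgebraicGeometry CategoryTheory Limits

namespace K348.UH

/-- Lifting a field valued point along a surjective morphism after a field extension. -/
theorem exists_field_lift {X Y : Scheme.{u}} (p : Y ⟶ X) [Surjective p] (K : Type u) [Field K]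
    (g : Spec (.of K) ⟶ X) :
    ∃ (L : Type u) (_ : Field L) (i : K →+* L) (h : Spec (.of L) ⟶ Y),
      h ≫ p = Spec.map (CommRingCat.ofHom i) ≫ g := by
  obtain ⟨z, hz⟩ := (pullback.snd p g).surjective (IsLocalRing.closedPoint K)
  let P := pullback p g
  let L := P.residueField z
  obtain ⟨φ, hφ⟩ := Spec.map_surjective (P.fromSpecResidueField z ≫ pullback.snd p g)
  refine ⟨L, inferInstance, φ.hom, P.fromSpecResidueField z ≫ pullback.fst p g, ?_⟩
  rw [Category.assoc, pullback.condition, ← Category.assoc, ← hφ]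
  rfl

instance flat_Spec_field (K L : Type u) [Field K] [Field L] (i : K →+* L) :
    Flat (Spec.map (CommRingCat.ofHom i)) := by
  rw [Flat.SpecMap_iff]
  algebraize [i]
  exact (inferInstance : Module.Flat K L)

instance surj_Spec_field (K L : Type u) [Field K] [Field L] (i : K →+* L) :
    Surjective (Spec.map (CommRingCat.ofHom i)) :=
  ⟨fun _ => ⟨IsLocalRing.closedPoint L, Subsingleton.elim (α := PrimeSpectrum K) _ _⟩⟩

/-- Universal injectivity of `f` tested after a surjective cover `p` of the source. -/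
theorem universallyInjective_of_cover {X Y S : Scheme.{u}} (f : X ⟶ S) (p : Y ⟶ X) [Surjective p]
    (H : ∀ (K : Type u) [Field K] (h₁ h₂ : Spec (.of K) ⟶ Y),
      (h₁ ≫ p) ≫ f = (h₂ ≫ p) ≫ f → h₁ ≫ p = h₂ ≫ p) :
    UniversallyInjective f := by
  refine ((tfae_universallyInjective f).out 0 1).mpr ?_
  intro K _ g₁ g₂ hg
  obtain ⟨L₁, _, i₁, h₁, e₁⟩ := exists_field_lift p K g₁
  obtain ⟨L₂, _, i₂, h₂, e₂⟩ := exists_field_lift p L₁ (Spec.map (CommRingCat.ofHom i₁) ≫ g₂)
  have h := H L₂ (Spec.map (CommRingCat.ofHom i₂) ≫ h₁) h₂ (by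
    simp only [Category.assoc] at *
    rw [reassoc_of% e₁, reassoc_of% e₂]
    rw [hg])
  rw [Category.assoc, e₁, e₂] at h
  have e1 : Epi (Spec.map (CommRingCat.ofHom i₂)) := Flat.epi_of_flat_of_surjective _
  have e2 : Epi (Spec.map (CommRingCat.ofHom i₁)) := Flat.epi_of_flat_of_surjective _
  rwa [cancel_epi, cancel_epi] at h

/-- Universal injectivity gives equality of field valued points. -/
theorem eq_of_comp_eq {X S : Scheme.{u}} (f : X ⟶ S) [UniversallyInjective f]
    (K : Type u) [Field K] (h₁ h₂ : Spec (.of K) ⟶ X) (h : h₁ ≫ f = h₂ ≫ f) : h₁ = h₂ := by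
  have h1 : UniversallyInjective f ↔
    ∀ (K : Type u) [Field K], Function.Injective (fun s : Spec (.of K) ⟶ X ↦ s ≫ f) :=
    (tfae_universallyInjective f).out 0 1
  exact h1.mp inferInstance K h

/-- Ring version. -/
theorem ringHom_eq_of_comp_eq {A C : Type u} [CommRing A] [CommRing C] (φ : A →+* C)
    (hφ : UniversallyInjective (Spec.map (CommRingCat.ofHom φ))) {K : Type u} [Field K]
    (h₁ h₂ : C →+* K) (h : h₁.comp φ = h₂.comp φ) : h₁ = h₂ := by
  have := eq_of_comp_eq (Spec.map (CommRingCat.ofHom φ)) K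
    (Spec.map (CommRingCat.ofHom h₁)) (Spec.map (CommRingCat.ofHom h₂)) (by
      rw [← Spec.map_comp, ← Spec.map_comp, ← CommRingCat.ofHom_comp, ← CommRingCat.ofHom_comp, h])
  have := Spec.map_injective this
  exact congr($(this).hom)

end K348.UH
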