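import Groth.Agent.HTop.K348.UOpenUltra
import Groth.Agent.Smoothlim.FlatDescend
import Groth.Agent.Subtr.K834.Basic
import Groth.Agent.Subtr.K835.Basic

/-! # Universally open morphisms of finite presentation and cofiltered limits

* `universallyOpen_of_gen`: valuative criterion of universal openness for morphisms locally of finite presentation.
* `descendsRing_universallyOpen`, `descendsAffine_universallyOpen`: if the base change of a morphism of finite
  presentation to a directed colimit `A = colim A_i` is universally open, so is the base change to some `A_i`. -/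

set_option autoImplicit false
universe u
open CategoryTheory CategoryTheory.Limits AlgebraicGeometry TensorProduct
open Groth.Agent.Smoothlim.LimBase Groth.Agent.Smoothlim.UltraVal

namespace K348.UOpenLim

open K348.UOpenUltra K834.Basic

/-- Every point of `P` has a generization over the generic point of `Spec V`. -/
def Gen {V : Type u} [CommRing V] [IsDomain V] {P : Scheme.{u}} (s : P ⟶ Spec (CommRingCat.of V)) : Prop :=
  ∀ x : P, ∃ x' : P, x' ⤳ x ∧ s x' = gpt V

theorem Gen.of_iso {V : Type u} [CommRing V] [IsDomain V] {P P' : Scheme.{u}}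
    {s : P ⟶ Spec (CommRingCat.of V)} {s' : P' ⟶ Spec (CommRingCat.of V)} (e : P ≅ P') (he : e.hom ≫ s' = s)
    (h : Gen s) : Gen s' := by
  intro x
  obtain ⟨x', h1, h2⟩ := h (e.inv x)
  refine ⟨e.hom x', ?_, ?_⟩
  · have := h1.map e.hom.continuous
    have h3 : e.hom (e.inv x) = x := congr($(e.inv_hom_id) x)
    rwa [h3] at this
  · rw [← he] at h2
    exact h2

theorem Gen.of_universallyOpen {V : Type u} [CommRing V] [IsDomain V] {P : Scheme.{u}}
    (s : P ⟶ Spec (CommRingCat.of V)) [UniversallyOpen s] : Gen s := by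
  intro x
  have h1 : gpt V ⤳ s x := (PrimeSpectrum.le_iff_specializes (gpt V) (s x)).mp bot_le
  obtain ⟨x', h2, h3⟩ := K835.Basic.generalizingMap_of_isOpenMap s s.isOpenMap h1
  exact ⟨x', h2, h3⟩

/-- **Valuative criterion** of universal openness. -/
theorem universallyOpen_of_gen {X Y : Scheme.{u}} (f : X ⟶ Y) [LocallyOfFinitePresentation f]
    (h : ∀ (V : Type u) [CommRing V] [IsDomain V] [ValuationRing V] (g : Spec (CommRingCat.of V) ⟶ Y),
      Gen (pullback.snd f g)) : UniversallyOpen f := by
  constructor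
  intro X' Y' i j k sq
  have hk : LocallyOfFinitePresentation k := MorphismProperty.of_isPullback sq.flip ‹_›
  refine isOpenMap_of_generalizingMap k ?_
  intro x y' hy
  obtain ⟨V, _, _, _, g, hg1, hg2⟩ := exists_valuationRing hy
  obtain ⟨z, hz1, hz2⟩ := Scheme.Pullback.exists_preimage_pullback (f := k) (g := g) x
    (IsLocalRing.closedPoint V) hg1.symm
  have h1 : IsPullback (pullback.fst k g ≫ i) (pullback.snd k g) f (g ≫ j) :=
    (IsPullback.of_hasPullback k g).paste_horiz sq.flip
  have h2 : Gen (pullback.snd k g) := by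
    refine Gen.of_iso h1.isoPullback.symm ?_ (h V (g ≫ j))
    simp
  obtain ⟨z', hz3, hz4⟩ := h2 z
  refine ⟨pullback.fst k g z', ?_, ?_⟩
  · have := hz3.map (pullback.fst k g).continuous
    rwa [hz1] at this
  · have h3 : k (pullback.fst k g z') = g (pullback.snd k g z') := congr($(pullback.condition (f := k) (g := g)) z')
    rw [h3, hz4, hg2]

/-- Translation to rings. -/
theorem gen_snd_iff {B C V : Type u} [CommRing B] [CommRing C] [CommRing V] [IsDomain V] [Algebra B C]
    [Algebra B V] :
    Gen (pullback.snd (Spec.map (CommRingCat.ofHom (algebraMap B C)))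
      (Spec.map (CommRingCat.ofHom (algebraMap B V)))) ↔ ∀ p : Ideal (V ⊗[B] C), p.IsPrime → HasGen V p := by
  have h : IsPullback (Spec.map (CommRingCat.ofHom (Algebra.TensorProduct.includeRight
        (R := B) (A := V) (B := C)).toRingHom))
      (Spec.map (CommRingCat.ofHom (algebraMap V (V ⊗[B] C))))
      (Spec.map (CommRingCat.ofHom (algebraMap B C))) (Spec.map (CommRingCat.ofHom (algebraMap B V))) :=
    isPullback_SpecMap_of_isPushout _ _ _ _ (CommRingCat.isPushout_tensorProduct B V C).flip
  have h1 : Gen (pullback.snd (Spec.map (CommRingCat.ofHom (algebraMap B C)))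
      (Spec.map (CommRingCat.ofHom (algebraMap B V)))) ↔
      Gen (Spec.map (CommRingCat.ofHom (algebraMap V (V ⊗[B] C)))) := by
    constructor
    · exact Gen.of_iso h.isoPullback.symm (by simp)
    · exact Gen.of_iso h.isoPullback (by simp)
  rw [h1]
  constructor
  · intro H p hp
    obtain ⟨q, hq1, hq2⟩ := H (⟨p, hp⟩ : PrimeSpectrum (V ⊗[B] C))
    refine ⟨q.asIdeal, q.2, (PrimeSpectrum.le_iff_specializes q ⟨p, hp⟩).mpr hq1, fun v hv => ?_⟩
    have h2 : v ∈ (gpt V).asIdeal := by
      rw [← hq2]
      exact hv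
    exact h2
  · intro H p
    obtain ⟨q, hq, hqp, h0⟩ := H p.asIdeal p.2
    refine ⟨(⟨q, hq⟩ : PrimeSpectrum (V ⊗[B] C)), (PrimeSpectrum.le_iff_specializes _ _).mp hqp, ?_⟩
    apply PrimeSpectrum.ext
    change Ideal.comap (algebraMap V (V ⊗[B] C)) q = ⊥
    rw [eq_bot_iff]
    exact fun v hv => h0 v hv

set_option backward.isDefEq.respectTransparency false in
theorem descendsRing_universallyOpen : DescendsRing.{u} @LocallyOfFinitePresentation @UniversallyOpen := by
  classical
  intro α _ _ _ F c hc B t ht b hb C γ hQ hP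
  have hP : UniversallyOpen (pullback.snd (Spec.map γ) (Spec.map b)) := hP
  have hγ : γ.hom.FinitePresentation :=
    HasRingHomProperty.Spec_iff (P := @LocallyOfFinitePresentation).mp hQ
  have hQ' : LocallyOfFinitePresentation (Spec.map γ) := hQ
  by_contra! hn
  -- a witness at every stage
  have hw : ∀ i, ∃ (V : Type u) (_ : CommRing V) (_ : IsDomain V) (_ : ValuationRing V)
      (a : F.obj i ⟶ .of V), ¬ Gen (pullback.snd (Spec.map γ) (Spec.map (t i ≫ a))) := by
    intro i
    by_contra! hg
    refine hn i (universallyOpen_of_gen _ fun V _ _ _ g => ?_)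
    obtain ⟨a, rfl⟩ := Spec.map_surjective g
    have h1 : IsPullback (pullback.fst (pullback.snd (Spec.map γ) (Spec.map (t i))) (Spec.map a) ≫
        pullback.fst (Spec.map γ) (Spec.map (t i)))
        (pullback.snd (pullback.snd (Spec.map γ) (Spec.map (t i))) (Spec.map a)) (Spec.map γ)
        (Spec.map a ≫ Spec.map (t i)) :=
      (IsPullback.of_hasPullback _ _).paste_horiz (IsPullback.of_hasPullback _ _)
    rw [← Spec.map_comp] at h1
    exact Gen.of_iso h1.isoPullback.symm (by simp) (hg V inferInstance inferInstance inferInstance a)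
  choose V _ _ _ a ha using hw
  let _ : Algebra B C := γ.hom.toAlgebra
  have hfp : Algebra.FinitePresentation B C := hγ
  let _ : ∀ i, Algebra B (V i) := fun i => (t i ≫ a i).hom.toAlgebra
  have hw2 : ∀ i, ∃ p : Ideal (V i ⊗[B] C), p.IsPrime ∧ ¬ HasGen (V i) p := by
    intro i
    by_contra! hg
    exact ha i ((gen_snd_iff (B := B) (C := C) (V := V i)).mpr hg)
  choose p hp1 hp2 using hw2
  let 𝒰 : Ultrafilter α := Ultrafilter.of Filter.atTop
  have h𝒰 : (𝒰 : Filter α) ≤ Filter.atTop := Ultrafilter.of_le _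
  let θ : c.pt ⟶ .of (UProd 𝒰 V) := hc.desc (thetaCocone F 𝒰 h𝒰 V a)
  have hθ (i : α) : c.ι.app i ≫ θ = CommRingCat.ofHom (theta F 𝒰 h𝒰 V a i) :=
    hc.fac (thetaCocone F 𝒰 h𝒰 V a) i
  have hbθ : b ≫ θ = CommRingCat.ofHom (algebraMap B (UProd 𝒰 V)) := by
    ext x
    obtain ⟨i⟩ := ‹Nonempty α›
    rw [← hb i, Category.assoc, hθ]
    change theta F 𝒰 h𝒰 V a i ((t i).hom x) = mk 𝒰 V (fun j => (a j).hom ((t j).hom x))
    exact theta_eq_mk F 𝒰 h𝒰 V a i ((t i).hom x) (fun j ↦ (a j).hom ((t j).hom x))
      (fun j hij ↦ congr((a j).hom ($(ht i j hij).hom x)))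
  have hopen : UniversallyOpen (pullback.snd (Spec.map γ) (Spec.map θ ≫ Spec.map b)) :=
    snd_comp @UniversallyOpen (Spec.map γ) (Spec.map b) (Spec.map θ) hP
  rw [← Spec.map_comp, hbθ] at hopen
  have hG := Gen.of_universallyOpen (pullback.snd (Spec.map γ)
    (Spec.map (CommRingCat.ofHom (algebraMap B (UProd 𝒰 V)))))
  have hG' := (gen_snd_iff (B := B) (C := C) (V := UProd 𝒰 V)).mp hG
  have h1 := eventually_hasGen 𝒰 V (B := B) (C := C) (fun i => (V i ⊗[B] C) ⧸ p i)
    (fun i => Ideal.Quotient.mkₐ B (p i)) hG'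
  obtain ⟨i, hi⟩ := h1.exists
  rw [AlgHom.toRingHom_eq_coe, Ideal.Quotient.mkₐ_ker] at hi
  exact hp2 i hi

theorem descendsAffine_universallyOpen :
    DescendsAffine.{u} (@LocallyOfFinitePresentation ⊓ @QuasiCompact) @UniversallyOpen :=
  have := HasRingHomProperty.instIsZariskiLocalAtSource (P := @LocallyOfFinitePresentation.{u})
    (Q := RingHom.FinitePresentation)
  descendsAffine_of_descendsRing descendsRing_universallyOpen

end K348.UOpenLim
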