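import Groth.Agent.Smoothlim.FlatColim
import Groth.Agent.Smoothlim.UltraDescend
import Groth.Agent.S0406
import Mathlib.RingTheory.Ideal.GoingDown
import Mathlib.RingTheory.Flat.TorsionFree
import Mathlib.RingTheory.FinitePresentation
import Mathlib.RingTheory.TensorProduct.Basic

/-! # Generizations over the generic point of a valuation ring and ultraproducts

Let `V i` be valuation rings, `C` a finitely presented `B`-algebra, and `p i` a prime of `V i ⊗[B] C`. If the
ultraproduct of the `p i` has a generization over the generic point, so have almost all `p i`. -/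

set_option autoImplicit false
universe u
open TensorProduct

namespace K348.UOpenUltra

/-- A prime `p` of the `V`-algebra `D` has a generization over the zero ideal of `V`. -/
def HasGen (V : Type*) {D : Type*} [CommRing V] [CommRing D] [Algebra V D] (p : Ideal D) : Prop :=
  ∃ q : Ideal D, q.IsPrime ∧ q ≤ p ∧ ∀ v : V, algebraMap V D v ∈ q → v = 0

theorem HasGen.of_flat (V : Type*) {D : Type*} [CommRing V] [IsDomain V] [CommRing D] [Algebra V D]
    [Module.Flat V D] (p : Ideal D) [p.IsPrime] : HasGen V p := by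
  obtain ⟨q, hq, hq', hl⟩ := Ideal.exists_ideal_le_liesOver_of_le (p := (⊥ : Ideal V))
    (q := p.under V) p bot_le
  refine ⟨q, hq', hq, fun v hv => ?_⟩
  have : v ∈ q.under V := hv
  rw [← hl.over] at this
  exact this

theorem HasGen.mem {V : Type*} {D : Type*} [CommRing V] [CommRing D] [Algebra V D] {p : Ideal D}
    (h : HasGen V p) {v : V} (hv : v ≠ 0) {d : D} (hd : algebraMap V D v * d = 0) : d ∈ p := by
  obtain ⟨q, hq, hqp, h0⟩ := h
  have : algebraMap V D v * d ∈ q := by rw [hd]; exact q.zero_mem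
  rcases hq.mem_or_mem this with h1 | h1
  · exact absurd (h0 v h1) hv
  · exact hqp h1

theorem HasGen.comap {V : Type*} {D D' : Type*} [CommRing V] [CommRing D] [CommRing D'] [Algebra V D]
    [Algebra V D'] (φ : D →+* D') (hφ : ∀ v, φ (algebraMap V D v) = algebraMap V D' v) {p' : Ideal D'}
    (h : HasGen V p') : HasGen V (p'.comap φ) := by
  obtain ⟨q, hq, hqp, h0⟩ := h
  refine ⟨q.comap φ, hq.comap φ, Ideal.comap_mono hqp, fun v hv => h0 v ?_⟩
  rw [← hφ]
  exact hv

/-- The torsion ideal. -/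
def tor (V D : Type*) [CommRing V] [IsDomain V] [CommRing D] [Algebra V D] : Ideal D where
  carrier := {d | ∃ v : V, v ≠ 0 ∧ algebraMap V D v * d = 0}
  zero_mem' := ⟨1, one_ne_zero, by simp⟩
  add_mem' := by
    rintro a b ⟨v, hv, ha⟩ ⟨w, hw, hb⟩
    refine ⟨v * w, mul_ne_zero hv hw, ?_⟩
    rw [map_mul, mul_add, mul_assoc, mul_assoc, mul_left_comm _ _ a, ha, hb]
    simp
  smul_mem' := by
    rintro c a ⟨v, hv, ha⟩
    refine ⟨v, hv, ?_⟩
    rw [smul_eq_mul, mul_left_comm, ha, mul_zero]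

theorem flat_quot_tor (V D : Type*) [CommRing V] [IsDomain V] [ValuationRing V] [CommRing D]
    [Algebra V D] : Module.Flat V (D ⧸ tor V D) := by
  rw [Module.Flat.flat_iff_torsion_eq_bot_of_isBezout, eq_bot_iff]
  rintro x ⟨⟨v, hv⟩, hx⟩
  obtain ⟨d, rfl⟩ := Ideal.Quotient.mk_surjective x
  have hv0 : v ≠ 0 := nonZeroDivisors.ne_zero hv
  have h1 : Ideal.Quotient.mk (tor V D) (algebraMap V D v * d) = 0 := by
    rw [map_mul]
    rw [← hx]
    exact (Algebra.smul_def v (Ideal.Quotient.mk (tor V D) d)).symm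
  obtain ⟨w, hw, h2⟩ := Ideal.Quotient.eq_zero_iff_mem.mp h1
  refine Ideal.Quotient.eq_zero_iff_mem.mpr ⟨w * v, mul_ne_zero hw hv0, ?_⟩
  rw [map_mul, mul_assoc]
  exact h2

theorem tor_fg (V D : Type u) [CommRing V] [IsDomain V] [ValuationRing V] [CommRing D]
    [Algebra V D] [Algebra.FinitePresentation V D] : (tor V D).FG := by
  have h1 : Module.Flat V (D ⧸ tor V D) := flat_quot_tor V D
  have h2 : Algebra.FiniteType V (D ⧸ tor V D) :=
    Algebra.FiniteType.of_surjective (Ideal.Quotient.mkₐ V (tor V D)) (Ideal.Quotient.mkₐ_surjective _ _)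
  have h3 : Algebra.FinitePresentation V (D ⧸ tor V D) := Groth.Agent.S0406.result
  have h4 := Algebra.FinitePresentation.ker_fG_of_surjective (Ideal.Quotient.mkₐ V (tor V D))
    (Ideal.Quotient.mkₐ_surjective _ _)
  rwa [AlgHom.toRingHom_eq_coe, Ideal.Quotient.mkₐ_ker] at h4

section TensorQuot

variable {B C E A : Type u} [CommRing B] [CommRing C] [CommRing E] [CommRing A] [Algebra B C] [Algebra B E]
  [Algebra E A] [Algebra B A] [IsScalarTower B E A]

variable (B C E A) in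
/-- Base change of `E ⊗[B] C` to `A ⊗[B] C`. -/
noncomputable def theta' : E ⊗[B] C →ₐ[E] A ⊗[B] C :=
  Algebra.TensorProduct.map (Algebra.ofId E A) (AlgHom.id B C)

@[simp] theorem theta'_tmul (e : E) (c : C) : theta' B C E A (e ⊗ₜ c) = algebraMap E A e ⊗ₜ c := rfl

variable {Q : Type u} [CommRing Q] [Algebra E Q] (q : E ⊗[B] C →ₐ[E] Q)

/-- The canonical map `A ⊗[B] C → A ⊗[E] Q` for `E ⊗[B] C → Q`. -/
noncomputable def delta : A ⊗[B] C →ₐ[A] A ⊗[E] Q :=
  (Algebra.TensorProduct.map (AlgHom.id A A) q).comp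
    (Algebra.TensorProduct.cancelBaseChange B E A A C).symm.toAlgHom

@[simp] theorem delta_tmul (a : A) (c : C) :
    delta (A := A) q (a ⊗ₜ c) = a ⊗ₜ q (1 ⊗ₜ c) := by
  simp [delta]

theorem delta_theta' (x : E ⊗[B] C) : delta (A := A) q (theta' B C E A x) = 1 ⊗ₜ q x := by
  have h : ((delta (A := A) q).restrictScalars E).comp (theta' B C E A) =
      (Algebra.TensorProduct.includeRight (R := E) (A := A) (B := Q)).comp q := by
    apply Algebra.TensorProduct.ext
    · ext
    · ext c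
      simp
  exact congr($h x)

/-- Flatness of `A ⊗[E] Q` from flatness of a quotient of `A ⊗[B] C`. -/
theorem flat_of_flat_quot (hq : Function.Surjective q) {T : Type u} [CommRing T] [Algebra A T]
    [Algebra E T] [IsScalarTower E A T]
    (t : A ⊗[B] C →ₐ[A] T) (ht : Function.Surjective t)
    (hT : RingHom.ker t.toRingHom = (RingHom.ker q.toRingHom).map (theta' B C E A).toRingHom)
    [Module.Flat A T] : Module.Flat A (A ⊗[E] Q) := by
  have hf : RingHom.ker t.toRingHom ≤ RingHom.ker (delta (A := A) q).toRingHom := by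
    rw [hT, Ideal.map_le_iff_le_comap]
    intro x hx
    change delta (A := A) q (theta' B C E A x) = 0
    rw [delta_theta', show q x = 0 from hx, TensorProduct.tmul_zero]
  let f : T →ₐ[A] A ⊗[E] Q := AlgHom.liftOfSurjective t ht (delta q) hf
  have hft : ∀ x, f (t x) = delta q x := AlgHom.liftOfSurjective_apply t ht (delta q) hf
  have hg' : RingHom.ker q.toRingHom ≤ RingHom.ker ((t.restrictScalars E).comp (theta' B C E A)).toRingHom := by
    intro x hx
    have h1 : (theta' B C E A).toRingHom x ∈ RingHom.ker t.toRingHom := by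
      rw [hT]
      exact Ideal.mem_map_of_mem _ hx
    exact h1
  let g' : Q →ₐ[E] T := AlgHom.liftOfSurjective q hq ((t.restrictScalars E).comp (theta' B C E A)) hg'
  have hgq : ∀ x, g' (q x) = t (theta' B C E A x) := AlgHom.liftOfSurjective_apply q hq _ hg'
  let g : A ⊗[E] Q →ₐ[A] T := Algebra.TensorProduct.lift (Algebra.ofId A T) g' (fun _ _ => Commute.all _ _)
  have hg : ∀ x : E ⊗[B] C, g (1 ⊗ₜ q x) = t (theta' B C E A x) := by
    intro x
    rw [Algebra.TensorProduct.lift_tmul, map_one, one_mul, hgq]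
  have hgf : g.comp f = AlgHom.id A _ := by
    have h1 : (g.toRingHom.comp f.toRingHom).comp t.toRingHom = t.toRingHom := by
      apply Algebra.TensorProduct.ringHom_ext
      · ext a
        change g (f (t (a ⊗ₜ 1))) = t (a ⊗ₜ 1)
        have h2 : t (a ⊗ₜ 1) = algebraMap A T a := t.commutes a
        rw [h2, AlgHom.commutes, AlgHom.commutes]
      · ext c
        change g (f (t (1 ⊗ₜ c))) = t (1 ⊗ₜ c)
        rw [hft, delta_tmul, hg, theta'_tmul, map_one]
    ext x
    obtain ⟨x, rfl⟩ := ht x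
    exact congr($h1 x)
  have hfg : f.comp g = AlgHom.id A _ := by
    apply Algebra.TensorProduct.ext
    · ext
    · ext x
      obtain ⟨x, rfl⟩ := hq x
      change f (g (1 ⊗ₜ q x)) = 1 ⊗ₜ q x
      rw [hg, hft, delta_theta']
  let e : T ≃ₐ[A] A ⊗[E] Q := AlgEquiv.ofAlgHom f g hfg hgf
  exact Module.Flat.of_linearEquiv e.toLinearEquiv.symm

theorem hasGen_of_flat [IsDomain A] {K : Type u} [CommRing K] [IsDomain K] (hq : Function.Surjective q)
    [Module.Flat A (A ⊗[E] Q)] (ψ : A ⊗[B] C →+* K)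
    (hψ : ∀ x, q x = 0 → ψ (theta' B C E A x) = 0) : HasGen A (RingHom.ker ψ) := by
  let f₁ : A →+* K := ψ.comp (algebraMap A (A ⊗[B] C))
  let _ : Algebra E K := (f₁.comp (algebraMap E A)).toAlgebra
  let f₂ : A →ₐ[E] K := { f₁ with commutes' := fun _ => rfl }
  let g₁ : E ⊗[B] C →ₐ[E] K :=
    { ψ.comp (theta' B C E A).toRingHom with
      commutes' := by
        intro x
        change ψ (theta' B C E A (algebraMap E _ x)) = ψ (algebraMap A (A ⊗[B] C) (algebraMap E A x))
        rw [AlgHom.commutes]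
        rfl }
  have hg₁ : RingHom.ker q.toRingHom ≤ RingHom.ker g₁.toRingHom := fun x hx => hψ x hx
  let g₂ : Q →ₐ[E] K := AlgHom.liftOfSurjective q hq g₁ hg₁
  have hg₂ : ∀ x, g₂ (q x) = ψ (theta' B C E A x) := AlgHom.liftOfSurjective_apply q hq _ hg₁
  let ρ : A ⊗[E] Q →ₐ[E] K := Algebra.TensorProduct.lift f₂ g₂ (fun _ _ => Commute.all _ _)
  have hρ : (ρ.toRingHom.comp (delta (A := A) q).toRingHom) = ψ := by
    apply Algebra.TensorProduct.ringHom_ext
    · ext v
      change ρ (delta (A := A) q (v ⊗ₜ 1)) = ψ (v ⊗ₜ 1)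
      rw [delta_tmul, Algebra.TensorProduct.lift_tmul, ← Algebra.TensorProduct.one_def, map_one, map_one,
        mul_one]
      rfl
    · ext c
      change ρ (delta (A := A) q (1 ⊗ₜ c)) = ψ (1 ⊗ₜ c)
      rw [delta_tmul, Algebra.TensorProduct.lift_tmul, hg₂, theta'_tmul, map_one, map_one, one_mul]
  have hker : RingHom.ker ψ = (RingHom.ker ρ.toRingHom).comap (delta (A := A) q).toRingHom := by
    ext x
    rw [Ideal.mem_comap, RingHom.mem_ker, RingHom.mem_ker]
    have := congr($hρ x)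
    change ρ.toRingHom ((delta (A := A) q).toRingHom x) = ψ x at this
    rw [this]
  rw [hker]
  have h1 : (RingHom.ker ρ.toRingHom).IsPrime := RingHom.ker_isPrime ρ.toRingHom
  exact HasGen.comap _ (fun v => (delta (A := A) q).commutes v) (HasGen.of_flat A _)

end TensorQuot

theorem exists_quot {E D : Type u} [CommRing E] [CommRing D] [Algebra E D]
    [Algebra.FinitePresentation E D] (J : Ideal D) (hJ : J.FG) :
    ∃ (Q : Type u) (_ : CommRing Q) (_ : Algebra E Q) (q : D →ₐ[E] Q), Function.Surjective q ∧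
      RingHom.ker q.toRingHom = J ∧ Algebra.FinitePresentation E Q := by
  refine ⟨D ⧸ J, inferInstance, inferInstance, Ideal.Quotient.mkₐ E J, Ideal.Quotient.mkₐ_surjective _ _,
    ?_, Algebra.FinitePresentation.quotient hJ⟩
  rw [AlgHom.toRingHom_eq_coe, Ideal.Quotient.mkₐ_ker]

theorem exists_quot_tor (V D : Type u) [CommRing V] [IsDomain V] [ValuationRing V] [CommRing D]
    [Algebra V D] :
    ∃ (T : Type u) (_ : CommRing T) (_ : Algebra V T) (t : D →ₐ[V] T), Function.Surjective t ∧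
      RingHom.ker t.toRingHom = tor V D ∧ Module.Flat V T := by
  refine ⟨D ⧸ tor V D, inferInstance, inferInstance, Ideal.Quotient.mkₐ V _,
    Ideal.Quotient.mkₐ_surjective _ _, ?_, flat_quot_tor V D⟩
  rw [AlgHom.toRingHom_eq_coe, Ideal.Quotient.mkₐ_ker]

section Ultra

open Groth.Agent.Smoothlim Groth.Agent.Smoothlim.UltraVal Groth.Agent.Smoothlim.FlatColim

variable {α : Type u} (𝒰 : Ultrafilter α) (V : α → Type u) [∀ i, CommRing (V i)]
  {B C : Type u} [CommRing B] [CommRing C] [Algebra B C] [∀ i, Algebra B (V i)]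

/-- Evaluation at `i`. -/
@[reducible] def evalAlg (i : α) : Algebra (Π i, V i) (V i) := (Pi.evalRingHom V i).toAlgebra

attribute [local instance] evalAlg

local instance evalTower (i : α) : IsScalarTower B (Π i, V i) (V i) :=
  .of_algebraMap_eq fun _ => rfl

theorem exists_lift (κ : α → Type u) [∀ i, CommRing (κ i)] [∀ i, Algebra B (κ i)]
    (ψ : ∀ i, V i ⊗[B] C →ₐ[B] κ i) :
    ∃ Ψ : UProd 𝒰 V ⊗[B] C →+* UProd 𝒰 κ, ∀ x : (Π i, V i) ⊗[B] C,
      Ψ (theta' B C (Π i, V i) (UProd 𝒰 V) x) =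
        mk 𝒰 κ (fun i => ψ i (theta' B C (Π i, V i) (V i) x)) := by
  let f : UProd 𝒰 V →ₐ[B] UProd 𝒰 κ :=
    { UltraVal.map 𝒰 (fun i => ((ψ i).comp (Algebra.TensorProduct.includeLeft (R := B) (S := B) (A := V i) (B := C))).toRingHom) with
      commutes' := by
        intro b
        change UltraVal.map 𝒰 _ (mk 𝒰 V (fun i => algebraMap B (V i) b)) = mk 𝒰 κ (fun i => algebraMap B (κ i) b)
        rw [map_mk]
        congr 1
        ext i
        exact ((ψ i).comp (Algebra.TensorProduct.includeLeft (R := B) (S := B) (A := V i) (B := C))).commutes b }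
  let g : C →ₐ[B] UProd 𝒰 κ :=
    (Ideal.Quotient.mkₐ B (zeroIdeal 𝒰 κ)).comp
      (AlgHom.pi fun i => (ψ i).comp Algebra.TensorProduct.includeRight)
  let Ψ : UProd 𝒰 V ⊗[B] C →ₐ[B] UProd 𝒰 κ :=
    Algebra.TensorProduct.lift f g (fun a b => by exact Commute.all (S := UProd 𝒰 κ) _ _)
  refine ⟨Ψ.toRingHom, fun x => ?_⟩
  let G : (Π i, V i) ⊗[B] C →ₐ[B] UProd 𝒰 κ :=
    (Ideal.Quotient.mkₐ B (zeroIdeal 𝒰 κ)).comp
      (AlgHom.pi fun i => (ψ i).comp ((theta' B C (Π i, V i) (V i)).restrictScalars B))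
  have h : Ψ.comp ((theta' B C (Π i, V i) (UProd 𝒰 V)).restrictScalars B) = G := by
    apply Algebra.TensorProduct.ext
    · ext x
      change f (mk 𝒰 V x) * g 1 = mk 𝒰 κ (fun i => ψ i (algebraMap (Π i, V i) (V i) x ⊗ₜ 1))
      rw [map_one, mul_one]
      rfl
    · ext c
      change f 1 * g c = mk 𝒰 κ (fun i => ψ i (algebraMap (Π i, V i) (V i) 1 ⊗ₜ c))
      rw [map_one, one_mul]
      change mk 𝒰 κ (fun i => ψ i (1 ⊗ₜ c)) = _
      simp only [map_one]
  exact congr($h x)

/-- **Ultraproducts of points with no generization over the generic point.** -/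
theorem eventually_hasGen [∀ i, IsDomain (V i)] [∀ i, ValuationRing (V i)]
    [Algebra.FinitePresentation B C] (κ : α → Type u) [∀ i, CommRing (κ i)]
    [∀ i, IsDomain (κ i)] [∀ i, Algebra B (κ i)] (ψ : ∀ i, V i ⊗[B] C →ₐ[B] κ i)
    (h : ∀ p : Ideal (UProd 𝒰 V ⊗[B] C), p.IsPrime → HasGen (UProd 𝒰 V) (D := UProd 𝒰 V ⊗[B] C) p) :
    ∀ᶠ i in (𝒰 : Filter α), HasGen (V i) (RingHom.ker (ψ i).toRingHom) := by
  classical
  obtain ⟨Ψ, hΨ⟩ := exists_lift 𝒰 V κ ψ
  have hp := h (RingHom.ker Ψ) (RingHom.ker_isPrime Ψ)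
  let Φ := theta' B C (Π i, V i) (UProd 𝒰 V)
  have hΦ : Function.Surjective Φ := by
    intro x
    induction x with
    | zero => exact ⟨0, map_zero _⟩
    | tmul a c =>
      obtain ⟨a, rfl⟩ := mk_surjective 𝒰 V a
      exact ⟨a ⊗ₜ c, rfl⟩
    | add x y hx hy =>
      obtain ⟨x, rfl⟩ := hx
      obtain ⟨y, rfl⟩ := hy
      exact ⟨x + y, map_add _ _ _⟩
  obtain ⟨s, hs⟩ := tor_fg (UProd 𝒰 V) (UProd 𝒰 V ⊗[B] C)
  choose l hl using hΦ
  let J : Ideal ((Π i, V i) ⊗[B] C) := Ideal.span (s.image l : Finset _)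
  have hJ : tor (UProd 𝒰 V) (UProd 𝒰 V ⊗[B] C) = J.map Φ.toRingHom := by
    rw [Ideal.map_span, ← hs]
    congr 1
    ext x
    simp only [Finset.coe_image, Set.mem_image, Finset.mem_coe]
    constructor
    · intro hx
      exact ⟨_, ⟨x, hx, rfl⟩, hl x⟩
    · rintro ⟨_, ⟨y, hy, rfl⟩, rfl⟩
      change Φ (l y) ∈ s
      rwa [hl]
  obtain ⟨T', _, _, t, ht, htk, hfl⟩ := exists_quot_tor (UProd 𝒰 V) (UProd 𝒰 V ⊗[B] C)
  obtain ⟨Q, _, _, q, hq, hqk, hfp⟩ := exists_quot (E := Π i, V i) J ⟨_, rfl⟩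
  let _ : Algebra (Π i, V i) T' := ((algebraMap (UProd 𝒰 V) T').comp (mk 𝒰 V)).toAlgebra
  have _ : @IsScalarTower (Π i, V i) (UProd 𝒰 V) T' Algebra.toSMul Algebra.toSMul Algebra.toSMul :=
    .of_algebraMap_eq fun _ => rfl
  have hfl' : Module.Flat (UProd 𝒰 V) (UProd 𝒰 V ⊗[Π i, V i] Q) := by
    refine flat_of_flat_quot q hq t ht ?_
    rw [htk, hqk]
    exact hJ
  obtain ⟨_, ⟨S, hS, rfl⟩, hm⟩ := exists_mem_flat (B := Π i, V i) (E := Π i, V i) (C := Q)
    (Ideal.Quotient.mkₐ (Π i, V i) (zeroIdeal 𝒰 V)) (T 𝒰 V) (isLocalization_T 𝒰 V)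
  have hz : ∀ᶠ i in (𝒰 : Filter α), ∀ x ∈ s, ψ i (theta' B C (Π i, V i) (V i) (l x)) = 0 := by
    rw [Filter.eventually_all_finset]
    intro x hx
    have h1 : x ∈ tor (UProd 𝒰 V) (UProd 𝒰 V ⊗[B] C) := by rw [← hs]; exact Ideal.subset_span hx
    obtain ⟨v, hv, hvx⟩ := h1
    have h2 : Ψ x = 0 := hp.mem hv hvx
    rw [← hl x, hΨ, mk_eq_zero] at h2
    exact h2
  filter_upwards [hS, hz] with i hi hzi
  have hfi : Module.Flat (V i) (V i ⊗[Π i, V i] Q) := by
    refine hm (V i) (Algebra.ofId (Π i, V i) (V i)) (Submonoid.powers (Pi.single i 1 : Π i, V i))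
      (isLocalization_eval V i) _ (Submonoid.mem_powers _) ⟨Pi.single i 1, ?_⟩
    ext j
    by_cases h : j = i
    · subst h; simp [hi]
    · simp [h]
  refine hasGen_of_flat q hq (ψ i).toRingHom ?_
  have : J ≤ RingHom.ker ((ψ i).toRingHom.comp (theta' B C (Π i, V i) (V i)).toRingHom) := by
    rw [Ideal.span_le]
    intro x hx
    simp only [Finset.coe_image, Set.mem_image, Finset.mem_coe] at hx
    obtain ⟨y, hy, rfl⟩ := hx
    exact hzi y hy
  intro x hx
  have hx' : x ∈ RingHom.ker q.toRingHom := hx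
  rw [hqk] at hx'
  exact this hx'

end Ultra

end K348.UOpenUltra
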